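import Cfsg.Agent.Classical.PSLTwoFour
import Cfsg.Agent.Classical.SylowTwoSL
import Cfsg.Agent.Classical.Transvections
import Cfsg.Agent.DGroup.Hyp
import Cfsg.Agent.DGroup.PGLAut
import Cfsg.Agent.AutPSL.Out
import Cfsg.Agent.GW.CaseI.PSLTorus

/-!
Facts about `PSL₂(q)`, `q` odd, used for involution centralisers `⟨t⟩ × E`.
-/

set_option autoImplicit false
set_option linter.unusedSectionVars false
set_option linter.style.haveILetI false

namespace CfsgLib.InvCentPSL

open Subgroup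
open CfsgLib.Linear.FourGroups
open CfsgLib.Linear.SmallSub (P2 proj)
open CfsgLib.DGroup (DHyp IsBase TI eq_one_of_sq)
open CfsgLib.NormCyclic (Inv)

variable {F : Type} [Field F] [Fintype F]

theorem mem_of_two {K : Type*} [Group K] [Finite K] {H : Subgroup K} {U : Subgroup K}
    (hUH : U ≤ H) (hidx : Nat.card H = 2 * Nat.card U) {a b : K} (ha : a ∈ H) (hb : b ∈ H)
    (haU : a ∉ U) (hbU : b ∉ U) : a * b ∈ U := by
  have h2 : (U.subgroupOf H).index = 2 := by
    have h := Subgroup.card_mul_index (U.subgroupOf H)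
    rw [Nat.card_congr (Subgroup.subgroupOfEquivOfLe hUH).toEquiv, hidx] at h
    exact Nat.eq_of_mul_eq_mul_left Nat.card_pos (h.trans (mul_comm _ _))
  have := (Subgroup.mul_mem_iff_of_index_two h2 (a := (⟨a, ha⟩ : H)) (b := ⟨b, hb⟩)).2
    ⟨fun h => absurd (mem_subgroupOf.1 h) haU, fun h => absurd (mem_subgroupOf.1 h) hbU⟩
  exact mem_subgroupOf.1 this

theorem dhyp (hodd : Odd (Fintype.card F)) : DHyp (P2 F) := by
  intro v hv
  obtain ⟨x, U, m, hx, hx1, hxU, hUx, hUc, -, hcU, hcC, hinv2, hout⟩ :=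
    centralizer_shape (F := F) hodd
  obtain ⟨g, rfl⟩ := isConj_iff.1 (involutions_conj hodd hx hx1 hv.1 hv.2)
  set φ : P2 F ≃* P2 F := MulAut.conj g
  have hφc : ∀ z, Commute (φ z) (φ x) ↔ Commute z x := fun z =>
    ⟨fun h => by have := h.map φ.symm; simpa using this, fun h => h.map φ⟩
  have hsy : ∀ z : P2 F, ∃ w, φ w = z := fun z => ⟨φ.symm z, φ.apply_symm_apply z⟩
  refine ⟨U.map φ.toMonoidHom, ?_, ⟨x, hxU, rfl⟩, ?_, ?_, ?_, ?_⟩
  · rintro _ ⟨z, hz, rfl⟩
    exact (hφc z).2 (mem_centralizer_singleton_iff.1 (hUx hz))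
  · rintro _ ⟨z, hz, rfl⟩ _ ⟨w, hw, rfl⟩
    letI := hUc.commGroup
    exact Commute.map (congrArg Subtype.val (mul_comm (⟨z, hz⟩ : U) ⟨w, hw⟩)) φ
  · rintro _ ⟨z, hz, rfl⟩ h1 h2
    rcases hinv2 z hz (φ.injective (by rw [map_mul, map_one]; exact h1)) with rfl | rfl
    · exact absurd (map_one φ) h2
    · rfl
  · intro z hz hzU
    obtain ⟨w, rfl⟩ := hsy z
    rw [← map_mul, (hout w (mem_centralizer_singleton_iff.2 ((hφc w).1 hz))
      fun h => hzU ⟨w, h, rfl⟩).1, map_one]
  · intro z z' hz hz' hzU hzU'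
    obtain ⟨w, rfl⟩ := hsy z
    obtain ⟨w', rfl⟩ := hsy z'
    rw [← map_mul]
    exact ⟨w * w', mem_of_two hUx (by rw [hcC, hcU])
      (mem_centralizer_singleton_iff.2 ((hφc w).1 hz))
      (mem_centralizer_singleton_iff.2 ((hφc w').1 hz'))
      (fun h => hzU ⟨w, h, rfl⟩) fun h => hzU' ⟨w', h, rfl⟩, rfl⟩

theorem exists_other (hodd : Odd (Fintype.card F)) {v : P2 F} (hv : Inv v) :
    ∃ w : P2 F, Inv w ∧ Commute w v ∧ w ≠ v := by
  obtain ⟨x, U, m, hx, hx1, hxU, hUx, -, -, hcU, hcC, -, hout⟩ := centralizer_shape (F := F) hodd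
  obtain ⟨g, rfl⟩ := isConj_iff.1 (involutions_conj hodd hx hx1 hv.1 hv.2)
  obtain ⟨c, hc, hcn⟩ : ∃ c ∈ centralizer ({x} : Set (P2 F)), c ∉ U := by
    by_contra hcon
    push Not at hcon
    have := Subgroup.card_le_of_le (show centralizer ({x} : Set (P2 F)) ≤ U from hcon)
    rw [hcC, hcU] at this
    have : 0 < Nat.card U := Nat.card_pos
    omega
  obtain ⟨h2, h1, -⟩ := hout c hc hcn
  exact ⟨g * c * g⁻¹, Inv.conj ⟨h2, h1⟩ g,
    (Commute.conj_iff g).2 (mem_centralizer_singleton_iff.1 hc),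
    fun e => hcn ((mul_left_cancel (mul_right_cancel e)) ▸ hxU)⟩

theorem two_ne (hodd : Odd (Fintype.card F)) : (2 : F) ≠ 0 :=
  CfsgLib.SL2C.two_ne_zero_of_odd hodd

theorem conj_mem_range (s : P2 F) : MulAut.conj s ∈ (CfsgLib.AutPSL.innDiagHom 2 F).range := by
  obtain ⟨k, rfl⟩ := QuotientGroup.mk_surjective s
  exact ⟨Matrix.SpecialLinearGroup.toGL k, CfsgLib.AutPSL.semiAut_toGL k⟩

theorem ti (hodd : Odd (Fintype.card F)) : TI (P2 F) := by
  intro v x y hv hx1 hxo hyo hxv hyx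
  have hxx : x * x ≠ 1 := fun h => hx1 (eq_one_of_sq h hxo)
  have cent : ∀ a : P2 F, MulAut.conj a = 1 → ∀ b, Commute a b := fun a h b => by
    have := congrArg (fun φ : MulAut (P2 F) => φ b) h
    exact mul_inv_eq_iff_eq_mul.1 this
  have hxx' : MulAut.conj x * MulAut.conj x ≠ 1 := by
    rw [← map_mul]
    intro h
    obtain ⟨w, hw, hwv, hwne⟩ := exists_other hodd hv
    have h2o : Odd (orderOf (x * x)) :=
      hxo.of_dvd_nat (by rw [← pow_two]; exact orderOf_pow_dvd 2)
    have h1 : w * (x * x) * w = (x * x)⁻¹ :=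
      (dhyp hodd).inverts hv hw hwv hwne ⟨hxv.mul_left hxv, h2o⟩
    rw [← (cent _ h w).eq, mul_assoc, hw.1, mul_one] at h1
    exact hxx (CfsgLib.DGroup.eq_one_of_inv_eq h1.symm h2o)
  have h : Commute (MulAut.conj y) (MulAut.conj v) :=
    CfsgLib.DGroup.PGLAut.commute_trans (two_ne hodd) (conj_mem_range x) (conj_mem_range y)
      (conj_mem_range v) hxx' (hyx.symm.map MulAut.conj) (hxv.map MulAut.conj)
  -- the commutator is central, so trivial as `y` has odd order and `v` order two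
  have hz : MulAut.conj (y⁻¹ * (v * y * v⁻¹)) = 1 := by
    rw [map_mul, map_mul, map_mul, map_inv, map_inv, ← h.eq, mul_inv_cancel_right, inv_mul_cancel]
  generalize hzd : y⁻¹ * (v * y * v⁻¹) = z at hz
  have hvy : v * y * v⁻¹ = y * z := by rw [← hzd, mul_inv_cancel_left]
  have hzy := cent z hz y
  have hz2 : z * z = 1 := by
    have h1 : v * (y * z) * v⁻¹ = y := by
      rw [← hvy, hv.inv_eq]
      rw [show v * (v * y * v) * v = (v * v) * y * (v * v) by group, hv.1, one_mul, mul_one]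
    rw [show v * (y * z) * v⁻¹ = v * y * v⁻¹ * (v * z * v⁻¹) by group, hvy,
      ← (cent z hz v).eq, mul_inv_cancel_right, mul_assoc] at h1
    exact mul_eq_left.1 h1
  have hz1 : z = 1 := by
    obtain ⟨k, hk⟩ := hyo
    have h1 : (y * z) ^ orderOf y = 1 := by
      rw [← hvy, ← MulAut.conj_apply, ← map_pow, pow_orderOf_eq_one, map_one]
    rwa [hzy.symm.mul_pow, pow_orderOf_eq_one, one_mul, hk, pow_succ, pow_mul, pow_two, hz2,
      one_pow, one_mul] at h1
  rw [hz1, mul_one] at hvy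
  exact (mul_inv_eq_iff_eq_mul.1 hvy).symm

/-- An element of order a power of two in the automorphism group centralising a four-group. -/
theorem aut_four (h8 : Fintype.card F % 8 = 3 ∨ Fintype.card F % 8 = 5) {v w : P2 F} (hv : Inv v)
    (hw : Inv w) (hvw : Commute v w) (hne : v ≠ w) {β : MulAut (P2 F)} {k : ℕ}
    (hk : β ^ 2 ^ k = 1) (hβv : β v = v) (hβw : β w = w) :
    ∃ u : P2 F, Commute u v ∧ Commute u w ∧ β = MulAut.conj u := by
  classical
  have hodd : Odd (Fintype.card F) := Nat.odd_iff.2 (by omega)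
  have h2 := two_ne hodd
  -- no field part
  obtain ⟨g, σ, hβ⟩ := CfsgLib.AutPSL.exists_semi_two β
  obtain ⟨p, hp⟩ := CharP.exists F
  haveI := hp
  obtain ⟨n, hprime, hcard⟩ := FiniteField.card F p
  haveI := Fact.mk hprime
  have hnodd : Odd (n : ℕ) := by
    by_contra hev
    obtain ⟨r, hr⟩ := Nat.not_odd_iff_even.1 hev
    have hp2 : p % 8 * (p % 8) % 8 = 1 := by
      have : p % 2 = 1 := by
        rw [hcard] at hodd
        exact Nat.odd_iff.1 (Nat.odd_pow_iff (by exact n.ne_zero) |>.1 hodd)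
      have : p % 8 = 1 ∨ p % 8 = 3 ∨ p % 8 = 5 ∨ p % 8 = 7 := by omega
      rcases this with h | h | h | h <;> rw [h]
    rw [hcard, hr, pow_add, ← mul_pow, Nat.pow_mod, Nat.mul_mod, hp2, one_pow] at h8
    omega
  have hσ : σ = 1 := by
    obtain ⟨e⟩ := CfsgLib.AutPSL.nonempty_ringAut_equiv (F := F) (p := p) (f := n) n.pos hcard
    have h1 : σ ^ 2 ^ k = 1 := by
      rw [← CfsgLib.AutPSL.fieldData_apply g σ, ← hβ, ← map_pow, hk, map_one]
    have h3 : σ ^ Nat.card (RingAut F) = 1 := pow_card_eq_one'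
    have hco : (2 ^ k).Coprime (Nat.card (RingAut F)) := by
      refine (Nat.coprime_two_left.2 ?_).pow_left k
      rw [Nat.card_congr e.toEquiv]
      simpa using hnodd
    rw [← orderOf_eq_one_iff]
    exact Nat.eq_one_of_dvd_coprimes hco (orderOf_dvd_of_pow_eq_one h1)
      (orderOf_dvd_of_pow_eq_one h3)
  subst hσ
  obtain ⟨E, rfl⟩ := proj_surj v
  obtain ⟨D, rfl⟩ := proj_surj w
  -- the lifts anticommute
  have hED : E * D = CfsgLib.SL2C.negOne F * (D * E) := by
    have h1 : (E * D) * (D * E)⁻¹ ∈ center (Matrix.SpecialLinearGroup (Fin 2) F) := proj_eq_one.1 (by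
      rw [map_mul, map_inv, map_mul, map_mul, hvw.eq, mul_inv_cancel])
    rcases CfsgLib.SL2C.center_cases h1 with e | e
    · exfalso
      have hcomm : Commute E D := mul_inv_eq_one.1 e
      have hE := sq_of_trace_zero ((proj_involution_iff hodd E).1 hv)
      have hD := sq_of_trace_zero ((proj_involution_iff hodd D).1 hw)
      have h3 := CfsgLib.SL2C.mem_center_of_mul_self hodd (g := E * D) (by
        rw [hcomm.symm.mul_mul_mul_comm, hE, hD]
        exact CfsgLib.SL2C.mt_injective (by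
          rw [CfsgLib.SL2C.mt_mul, CfsgLib.SL2C.mt_negOne, neg_mul_neg, one_mul]; rfl))
      have h4 := proj_eq_one.2 h3
      rw [map_mul] at h4
      exact hne (by rw [eq_inv_of_mul_eq_one_left h4, hw.inv_eq])
    · exact mul_inv_eq_iff_eq_mul.1 e
  -- `g` commutes or anticommutes with the lifts
  have hβ' : β = CfsgLib.AutPSL.innDiagHom 2 F g := by rw [hβ]; rfl
  have hfix : ∀ Z : Matrix.SpecialLinearGroup (Fin 2) F, β (proj Z) = proj Z →
      ∃ c : F, (c = 1 ∨ c = -1) ∧ (g : Matrix (Fin 2) (Fin 2) F) * (Z : Matrix (Fin 2) (Fin 2) F) =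
        c • ((Z : Matrix (Fin 2) (Fin 2) F) * (g : Matrix (Fin 2) (Fin 2) F)) := by
    intro Z hZ
    have h1 : Commute β (MulAut.conj (proj Z)) := MulEquiv.ext fun x => by
      simp only [MulAut.mul_apply, MulAut.conj_apply, map_mul, map_inv, hZ]
    have h3 : Commute (CfsgLib.AutPSL.innDiagHom 2 F g)
        (CfsgLib.AutPSL.innDiagHom 2 F (Matrix.SpecialLinearGroup.toGL Z)) := by
      have e : CfsgLib.AutPSL.innDiagHom 2 F (Matrix.SpecialLinearGroup.toGL Z) =
          MulAut.conj (proj Z) := CfsgLib.AutPSL.semiAut_toGL Z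
      rw [e, ← hβ']; exact h1
    obtain ⟨c, hc⟩ := CfsgLib.NormCyclic.PSLAut.innDiag_eq (g := g * Matrix.SpecialLinearGroup.toGL Z)
      (h := Matrix.SpecialLinearGroup.toGL Z * g) (by rw [map_mul, map_mul]; exact h3.eq)
    simp only [Units.val_mul] at hc
    refine ⟨c, ?_, hc⟩
    have hdet := congrArg Matrix.det hc
    rw [Matrix.det_smul, Fintype.card_fin, Matrix.det_mul, Matrix.det_mul] at hdet
    have hd : (g : Matrix (Fin 2) (Fin 2) F).det ≠ 0 := (Matrix.GeneralLinearGroup.det g).ne_zero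
    have hZ1 : (Matrix.SpecialLinearGroup.toGL Z : Matrix (Fin 2) (Fin 2) F).det = 1 := Z.2
    rw [hZ1, mul_one, one_mul] at hdet
    exact mul_self_eq_one_iff.1 (mul_right_cancel₀ hd (by rw [one_mul]; linear_combination -hdet))
  obtain ⟨a, ha, hga⟩ := hfix E hβv
  obtain ⟨b, hb, hgb⟩ := hfix D hβw
  -- a product of the lifts with the same signs
  have hEDm : (E : Matrix (Fin 2) (Fin 2) F) * (D : Matrix (Fin 2) (Fin 2) F) =
      (-1 : F) • ((D : Matrix (Fin 2) (Fin 2) F) * E) := by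
    have h := congrArg CfsgLib.SL2C.mt hED
    rw [CfsgLib.SL2C.mt_mul, CfsgLib.SL2C.mt_mul, CfsgLib.SL2C.mt_mul, CfsgLib.SL2C.mt_negOne] at h
    show CfsgLib.SL2C.mt E * CfsgLib.SL2C.mt D = (-1 : F) • (CfsgLib.SL2C.mt D * CfsgLib.SL2C.mt E)
    rw [h, neg_one_mul, neg_one_smul]
  have hDEm : (D : Matrix (Fin 2) (Fin 2) F) * (E : Matrix (Fin 2) (Fin 2) F) =
      (-1 : F) • ((E : Matrix (Fin 2) (Fin 2) F) * D) := by
    rw [hEDm, smul_smul]; simp
  obtain ⟨Z, hZE, hZD, hZp⟩ : ∃ Z : Matrix.SpecialLinearGroup (Fin 2) F,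
      (Z : Matrix (Fin 2) (Fin 2) F) * E = a • ((E : Matrix (Fin 2) (Fin 2) F) * Z) ∧
      (Z : Matrix (Fin 2) (Fin 2) F) * D = b • ((D : Matrix (Fin 2) (Fin 2) F) * Z) ∧
      Commute (proj Z) (proj E) ∧ Commute (proj Z) (proj D) := by
    rcases ha with rfl | rfl <;> rcases hb with rfl | rfl
    · exact ⟨1, by simp, by simp, by simp, by simp⟩
    · exact ⟨E, by simp, hEDm, Commute.refl _, hvw⟩
    · exact ⟨D, hDEm, by simp, hvw.symm, Commute.refl _⟩
    · refine ⟨E * D, ?_, ?_, by rw [map_mul]; exact (Commute.refl _).mul_left hvw.symm,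
        by rw [map_mul]; exact hvw.mul_left (Commute.refl _)⟩
      · rw [Matrix.SpecialLinearGroup.coe_mul, mul_assoc, hDEm, Matrix.mul_smul]
      · rw [Matrix.SpecialLinearGroup.coe_mul, ← mul_assoc (D : Matrix (Fin 2) (Fin 2) F) _ _, hDEm,
          Matrix.smul_mul, smul_smul, mul_assoc]
        simp
  have haa : a * a = 1 := by rcases ha with rfl | rfl <;> simp
  have hbb : b * b = 1 := by rcases hb with rfl | rfl <;> simp
  set W := Matrix.SpecialLinearGroup.toGL Z
  have hWe : (W : Matrix (Fin 2) (Fin 2) F) = (Z : Matrix (Fin 2) (Fin 2) F) := rfl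
  have hcm : ∀ (Y : Matrix (Fin 2) (Fin 2) F) (c : F), c * c = 1 →
      (g : Matrix (Fin 2) (Fin 2) F) * Y = c • (Y * g) →
      (W : Matrix (Fin 2) (Fin 2) F) * Y = c • (Y * W) →
      ((W⁻¹ * g : GL (Fin 2) F) : Matrix (Fin 2) (Fin 2) F) * Y =
        Y * ((W⁻¹ * g : GL (Fin 2) F) : Matrix (Fin 2) (Fin 2) F) := by
    intro Y c hcc hg hW
    have hW' : Y * (W : Matrix (Fin 2) (Fin 2) F) = c • ((W : Matrix (Fin 2) (Fin 2) F) * Y) := by
      rw [hW, smul_smul, hcc, one_smul]
    have hi : ((W⁻¹ : GL (Fin 2) F) : Matrix (Fin 2) (Fin 2) F) * Y =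
        c • (Y * ((W⁻¹ : GL (Fin 2) F) : Matrix (Fin 2) (Fin 2) F)) := by
      calc ((W⁻¹ : GL (Fin 2) F) : Matrix (Fin 2) (Fin 2) F) * Y
          = ((W⁻¹ : GL (Fin 2) F) : Matrix (Fin 2) (Fin 2) F) * (Y * (W : Matrix (Fin 2) (Fin 2) F)) *
              ((W⁻¹ : GL (Fin 2) F) : Matrix (Fin 2) (Fin 2) F) := by
            rw [mul_assoc, mul_assoc Y, ← Units.val_mul, mul_inv_cancel, Units.val_one, mul_one]
        _ = _ := by
            rw [hW', Matrix.mul_smul, Matrix.smul_mul, ← mul_assoc, ← Units.val_mul, inv_mul_cancel,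
              Units.val_one, one_mul]
    rw [Units.val_mul, mul_assoc, hg, Matrix.mul_smul, ← mul_assoc, hi, Matrix.smul_mul, smul_smul,
      hcc, one_smul, mul_assoc]
  have hc1 := hcm _ a haa hga (hWe ▸ hZE)
  have hc2 := hcm _ b hbb hgb (hWe ▸ hZD)
  set N := ((W⁻¹ * g : GL (Fin 2) F) : Matrix (Fin 2) (Fin 2) F)
  have hscal : ¬ (N 0 1 ≠ 0 ∨ N 1 0 ≠ 0 ∨ N 0 0 - N 1 1 ≠ 0) := fun hA => by
    have h := CfsgLib.DGroup.PGLAut.matrix_comm hA hc1 hc2
    rw [hEDm] at h
    have h0 : ((D : Matrix (Fin 2) (Fin 2) F) * E).det = 1 := by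
      rw [Matrix.det_mul, D.2, E.2, one_mul]
    have h5 : ((-1 : F) - 1) • ((D : Matrix (Fin 2) (Fin 2) F) * E) = 0 := by
      rw [sub_smul, one_smul, h, sub_self]
    rcases smul_eq_zero.1 h5 with h6 | h6
    · exact h2 (by linear_combination -h6)
    · rw [h6, Matrix.det_zero] at h0; exact zero_ne_one h0
  push Not at hscal
  obtain ⟨n1, n2, n3⟩ := hscal
  have hone : CfsgLib.AutPSL.innDiagHom 2 F (W⁻¹ * g) = 1 := by
    show CfsgLib.AutPSL.semiAut _ _ = 1
    refine CfsgLib.AutPSL.semiAut_scalar (c := N 0 0) ?_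
    ext i j; fin_cases i <;> fin_cases j <;> simp [N] at n1 n2 n3 ⊢ <;> first | assumption | linear_combination -n3
  rw [map_mul, map_inv, inv_mul_eq_one, ← hβ'] at hone
  exact ⟨proj Z, hZp.1, hZp.2, hone.symm.trans (CfsgLib.AutPSL.semiAut_toGL Z)⟩

/-- An abelian Sylow 2-subgroup forces `q ≡ 3, 5 (mod 8)`. -/
theorem mod_eight (hodd : Odd (Fintype.card F))
    (hab : ∀ P : Sylow 2 (P2 F), IsMulCommutative (P : Subgroup (P2 F))) :
    Fintype.card F % 8 = 3 ∨ Fintype.card F % 8 = 5 := by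
  haveI := Fact.mk Nat.prime_two
  obtain ⟨x, U, m, hx, hx1, hxU, hUx, hUc, hm, hcU, hcC, hinv2, hout⟩ :=
    centralizer_shape (F := F) hodd
  by_contra hcon
  have hq := Nat.odd_iff.1 hodd
  have h4 : 4 ∣ m := by
    split_ifs at hm with h
    · omega
    · omega
  obtain ⟨g, hg⟩ := hUc.exists_generator
  have ho : orderOf (g : P2 F) = m := by
    rw [Subgroup.orderOf_coe, orderOf_eq_card_of_forall_mem_zpowers hg, hcU]
  set u := (g : P2 F) ^ (m / 4) with hu
  have hmpos : 0 < m := hcU ▸ Nat.card_pos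
  have huo : orderOf u = 4 := by
    rw [hu, orderOf_pow_of_dvd (by omega) (by rw [ho]; exact Nat.div_dvd_of_dvd h4), ho,
      Nat.div_div_self h4 hmpos.ne']
  have huU : u ∈ U := pow_mem g.2 _
  obtain ⟨c, hc, hcn⟩ : ∃ c ∈ centralizer ({x} : Set (P2 F)), c ∉ U := by
    by_contra hcon'
    push Not at hcon'
    have := Subgroup.card_le_of_le (show centralizer ({x} : Set (P2 F)) ≤ U from hcon')
    rw [hcC, hcU] at this
    omega
  obtain ⟨hc2, hc1, hinv⟩ := hout c hc hcn
  have hcP : IsPGroup 2 (zpowers c) := IsPGroup.of_card (n := 1) (by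
    rw [Nat.card_zpowers, pow_one]
    exact Invol.orderOf_eq_two hc2 hc1)
  have huP : IsPGroup 2 (zpowers u) := IsPGroup.of_card (n := 2) (by rw [Nat.card_zpowers, huo]; rfl)
  have hle : zpowers c ≤ normalizer (zpowers u : Set (P2 F)) := by
    rw [zpowers_le, mem_normalizer_iff]
    have key : ∀ h ∈ zpowers u, c * h * c⁻¹ ∈ zpowers u := fun h hh => by
      rw [hinv h ((zpowers_le.2 huU) hh)]; exact inv_mem hh
    refine fun h => ⟨key h, fun hh => ?_⟩
    have := key _ hh
    rwa [show c * (c * h * c⁻¹) * c⁻¹ = h by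
      rw [show c * (c * h * c⁻¹) * c⁻¹ = (c * c) * h * (c * c)⁻¹ by group, hc2]; simp] at this
  obtain ⟨P, hP⟩ := (hcP.to_sup_of_normal_right' huP hle).exists_le_sylow
  have hcu : c * u = u * c :=
    congrArg Subtype.val ((hab P).is_comm.comm ⟨c, hP (mem_sup_left (mem_zpowers c))⟩
      ⟨u, hP (mem_sup_right (mem_zpowers u))⟩)
  have h1 := hinv u huU
  rw [hcu, mul_inv_cancel_right] at h1
  have h2 : orderOf u ∣ 2 := orderOf_dvd_of_pow_eq_one (by
    rw [pow_two]; nth_rw 1 [h1]; exact inv_mul_cancel u)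
  rw [huo] at h2
  exact absurd (Nat.le_of_dvd two_pos h2) (by norm_num)

/-- `PSL₂(q)` has no nontrivial normal subgroup of odd order. -/
theorem odd_normal (hodd : Odd (Fintype.card F)) {R : Subgroup (P2 F)} [R.Normal]
    (hR : Odd (Nat.card R)) {v w : P2 F} (hv : Inv v) (hw : Inv w) (hvw : Commute v w) (hne : v ≠ w) :
    R = ⊥ := by
  by_cases h3 : Fintype.card F = 3
  · obtain ⟨x, U, m, hx, hx1, -, hUx, -, hm, hcU, hcC, -, -⟩ := centralizer_shape (F := F) hodd
    have hP := CfsgLib.GW.CaseI.two_mul_card_psl (F := F) hodd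
    rw [h3] at hm hP
    have hd : Nat.card R ∣ 3 := by
      have h1 : Nat.card R ∣ 2 * Nat.card (P2 F) := Dvd.dvd.mul_left R.card_subgroup_dvd_card 2
      rw [hP] at h1
      exact (Nat.Coprime.dvd_of_dvd_mul_left ((Nat.coprime_two_right.2 hR).pow_right 3)
        (show Nat.card R ∣ 2 ^ 3 * 3 by norm_num at h1 ⊢; exact h1))
    rcases (Nat.dvd_prime Nat.prime_three).1 hd with h | h
    · exact Subgroup.card_eq_one.1 h
    exfalso
    haveI := Fact.mk Nat.prime_three
    obtain ⟨r, hr⟩ := exists_prime_orderOf_dvd_card' (G := R) 3 (by rw [h])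
    have hr3 : orderOf (r : P2 F) = 3 := by rw [Subgroup.orderOf_coe, hr]
    -- an involution sends `r` to itself or to its inverse
    have hcase : ∀ a : P2 F, Inv a → a * r * a = r ∨ a * r * a = (r : P2 F)⁻¹ := by
      intro a ha
      have hmem : a * r * a⁻¹ ∈ R := (inferInstance : R.Normal).conj_mem r r.2 a
      rw [ha.inv_eq] at hmem
      have hgen : Subgroup.zpowers r = (⊤ : Subgroup R) :=
        Subgroup.eq_top_of_card_eq _ (by rw [Nat.card_zpowers, hr, h])
      obtain ⟨i, hi⟩ := Subgroup.mem_zpowers_iff.1 (hgen ▸ Subgroup.mem_top (⟨_, hmem⟩ : R))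
      beta_reduce at hi
      rw [← zpow_mod_orderOf, hr] at hi
      have hi' := congrArg Subtype.val hi
      simp only [SubgroupClass.coe_zpow] at hi'
      have h0 : 0 ≤ i % (3 : ℕ) := Int.emod_nonneg _ (by norm_num)
      have h1 : i % (3 : ℕ) < 3 := Int.emod_lt_of_pos _ (by norm_num)
      obtain e | e | e : i % (3 : ℕ) = 0 ∨ i % (3 : ℕ) = 1 ∨ i % (3 : ℕ) = 2 := by omega
      · rw [e, zpow_zero] at hi'
        have h4 : (r : P2 F) = 1 := by
          have := congrArg (fun z => a * z * a) hi'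
          simp only [mul_one, ha.1] at this
          rw [show a * (a * r * a) * a = (a * a) * r * (a * a) by group, ha.1] at this
          simpa using this.symm
        rw [h4, orderOf_one] at hr3
        exact absurd hr3 (by norm_num)
      · rw [e, zpow_one] at hi'
        exact Or.inl hi'.symm
      · rw [e] at hi'
        refine Or.inr (hi'.symm.trans (eq_inv_of_mul_eq_one_left ?_))
        rw [← zpow_add_one, show (2 : ℤ) + 1 = (3 : ℕ) by norm_num, zpow_natCast, ← hr3,
          pow_orderOf_eq_one]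
    have hfix : ∃ a : P2 F, Inv a ∧ Commute (r : P2 F) a := by
      have hcm : ∀ a : P2 F, Inv a → a * r * a = r → Commute (r : P2 F) a := fun a ha e => by
        have := congrArg (a * ·) e
        simp only [← mul_assoc, ha.1, one_mul] at this
        exact this
      rcases hcase v hv with e | e
      · exact ⟨v, hv, hcm v hv e⟩
      rcases hcase w hw with e' | e'
      · exact ⟨w, hw, hcm w hw e'⟩
      have hvw' : Inv (v * w) := ⟨by rw [hvw.symm.mul_mul_mul_comm, hv.1, hw.1, one_mul],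
        fun e0 => hne (by rw [eq_inv_of_mul_eq_one_left e0, hw.inv_eq])⟩
      refine ⟨v * w, hvw', hcm _ hvw' ?_⟩
      calc v * w * r * (v * w) = v * w * r * (w * v) := by rw [hvw.eq]
        _ = v * (w * r * w) * v := by group
        _ = r := by
          rw [e', ← e, show v * (v * r * v) * v = (v * v) * r * (v * v) by group, hv.1, one_mul, mul_one]
    obtain ⟨a, ha, hra⟩ := hfix
    obtain ⟨g, hg⟩ := isConj_iff.1 (involutions_conj hodd ha.1 ha.2 hx hx1)
    have hc : g * r * g⁻¹ ∈ centralizer ({x} : Set (P2 F)) :=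
      mem_centralizer_singleton_iff.2 (hg ▸ (Commute.conj_iff g).2 hra).eq
    have h5 := orderOf_dvd_natCard _ hc
    rw [Invol.orderOf_conj_eq, hr3, hcC] at h5
    rw [if_neg (by norm_num)] at hm
    omega
  · have h5 : ∃ x : F, x ≠ 0 ∧ x ^ 2 ≠ 1 := by
      classical
      by_contra hcon
      push Not at hcon
      have hsub : (Finset.univ : Finset F) ⊆ {0, 1, -1} := fun y _ => by
        by_cases hy : y = 0
        · simp [hy]
        · rcases sq_eq_one_iff.1 (hcon y hy) with e | e <;> simp [e]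
      have h1 := Finset.card_le_card hsub
      have h2 : ({0, 1, -1} : Finset F).card ≤ 3 := Finset.card_le_three
      rw [Finset.card_univ] at h1
      have := CfsgLib.SL2C.three_le_card hodd
      omega
    haveI := CfsgLib.Linear.isSimpleGroup_PSL (ι := Fin 2) (F := F) (Or.inr h5)
    refine (inferInstance : R.Normal).eq_bot_or_eq_top.resolve_right fun e => ?_
    subst e
    rw [Subgroup.card_top] at hR
    exact Nat.not_even_iff_odd.2 hR (even_iff_two_dvd.2 (hv.orderOf ▸ orderOf_dvd_natCard v))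

end CfsgLib.InvCentPSL
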