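import Cfsg.Agent.InvCentPSL.Setting
import Cfsg.Agent.S0223

/-!
A subgroup properly containing the centraliser is strongly embedded.
-/

set_option autoImplicit false
set_option linter.unusedSectionVars false
set_option linter.style.haveILetI false

namespace CfsgLib.InvCentPSL

open Subgroup
open CfsgLib.Linear.SmallSub (P2)
open CfsgLib.DGroup (DHyp TI eq_one_of_sq)
open CfsgLib.NormCyclic (Inv)

variable {G : Type*} [Group G] [Finite G] {F : Type} [Field F] [Fintype F] (D : Setting G F)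

namespace Setting

include D

theorem conj_into (S : Sylow 2 G) {K : Subgroup G} (hSK : (S : Subgroup G) ≤ K) {x : G}
    (hxK : x ∈ K) (hx : orderOf x = 2) : ∃ k ∈ K, k * x * k⁻¹ ∈ (S : Subgroup G) := by
  haveI := Fact.mk Nat.prime_two
  obtain ⟨P, hP⟩ := (IsPGroup.of_card (n := 1) (show Nat.card (zpowers (⟨x, hxK⟩ : K)) = 2 ^ 1 by
    rw [Nat.card_zpowers, pow_one, ← hx, ← Subgroup.orderOf_coe])).exists_le_sylow
  obtain ⟨k, hk⟩ := MulAction.exists_smul_eq K P (S.subtype hSK)
  refine ⟨k, k.2, ?_⟩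
  have : k * ⟨x, hxK⟩ * k⁻¹ ∈ ((S.subtype hSK : Sylow 2 K) : Subgroup K) :=
    hk ▸ ⟨⟨x, hxK⟩, hP (mem_zpowers _), rfl⟩
  exact mem_subgroupOf.1 this

theorem fusion (S : Sylow 2 G) {K : Subgroup G} (hSK : (S : Subgroup G) ≤ K) {x g : G} (hgK : g ∈ K)
    (hx : x ∈ (S : Subgroup G)) (hgx : g * x * g⁻¹ ∈ (S : Subgroup G)) :
    ∃ n ∈ K, n ∈ normalizer ((S : Subgroup G) : Set G) ∧ n * x * n⁻¹ = g * x * g⁻¹ := by
  haveI := Fact.mk Nat.prime_two
  haveI : IsMulCommutative ((S.subtype hSK : Sylow 2 K) : Subgroup K) :=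
    ⟨⟨fun a b => Subtype.ext (Subtype.ext
      (D.pGroup_commute S.isPGroup' (mem_subgroupOf.1 a.2) (mem_subgroupOf.1 b.2)))⟩⟩
  obtain ⟨m, hm, hmx⟩ := (S.subtype hSK).conj_eq_normalizer_conj_of_mem (⟨x, hSK hx⟩ : K)
    ((⟨g, hgK⟩ : K)⁻¹) (mem_subgroupOf.2 hx) (mem_subgroupOf.2 (by
      show g⁻¹⁻¹ * x * g⁻¹ ∈ (S : Subgroup G)
      rw [inv_inv]; exact hgx))
  refine ⟨(m : G)⁻¹, inv_mem m.2, inv_mem (mem_normalizer_iff.2 fun z => ?_), ?_⟩
  · constructor <;> intro hz
    · exact mem_subgroupOf.1 ((mem_normalizer_iff.1 hm ⟨z, hSK hz⟩).1 (mem_subgroupOf.2 hz))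
    · have hzK : z ∈ K := by
        have := mul_mem (mul_mem (inv_mem m.2) (hSK hz)) m.2
        simpa [mul_assoc] using this
      exact mem_subgroupOf.1 ((mem_normalizer_iff.1 hm ⟨z, hzK⟩).2 (mem_subgroupOf.2 hz))
  · have e := congrArg Subtype.val hmx
    simp only [Subgroup.coe_mul, InvMemClass.coe_inv, inv_inv] at e
    rw [inv_inv]
    exact e.symm

/-- The isolated case gives a normal subgroup of odd order. -/
theorem zstar_in (S : Sylow 2 G) (hSt : D.t ∈ (S : Subgroup G))
    (hSC : (S : Subgroup G) ≤ centralizer ({D.t} : Set G)) {M : Subgroup G}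
    (hCM : centralizer ({D.t} : Set G) ≤ M)
    (hfix : ∀ n ∈ M, n ∈ normalizer ((S : Subgroup G) : Set G) → n * D.t * n⁻¹ = D.t) :
    ∃ W : Subgroup G, W ≤ M ∧ Odd (Nat.card W) ∧ (∀ m ∈ M, ∀ w ∈ W, m * w * m⁻¹ ∈ W) ∧
      ∀ m ∈ M, D.t * m * D.t⁻¹ * m⁻¹ ∈ W := by
  have hSM := hSC.trans hCM
  obtain ⟨N, hN, hodd, hcom⟩ := CfsgLib.ZStar.zstar_of_sylow (S.subtype hSM)
    (a := (⟨D.t, hCM D.t_mem⟩ : M)) (by rw [← Subgroup.orderOf_coe]; exact D.ht) fun g hg => by
      obtain ⟨n, hnM, hn, he⟩ := D.fusion S hSM g.2 hSt (mem_subgroupOf.1 hg)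
      exact Subtype.ext (he.symm.trans (hfix n hnM hn))
  refine ⟨N.map M.subtype, map_subtype_le N, ?_, ?_, fun m hm => ?_⟩
  · rwa [card_map_of_injective M.subtype_injective]
  · rintro m hm _ ⟨w, hw, rfl⟩
    exact ⟨_, hN.conj_mem w hw ⟨m, hm⟩, rfl⟩
  · exact ⟨_, hcom ⟨m, hm⟩, rfl⟩

variable [IsSimpleGroup G]

theorem not_comm : ¬ IsMulCommutative G := fun h => by
  obtain ⟨v, w, hv, -, -, -⟩ := D.exists_pair
  haveI : D.E.Normal := ⟨fun x hx g => D.conj_E
    (mem_centralizer_singleton_iff.2 (h.is_comm.comm g D.t)) hx⟩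
  rcases (inferInstance : D.E.Normal).eq_bot_or_eq_top with e | e
  · exact (D.inv_emb hv).2 (mem_bot.1 (e ▸ D.le (D.emb_mem v)))
  · exact D.t_notMem (e ▸ mem_top _)

/-- All involutions are conjugate, inside the normaliser of the Sylow subgroup for those in it. -/
theorem all_conj (S : Sylow 2 G) (hSt : D.t ∈ (S : Subgroup G))
    (hSC : (S : Subgroup G) ≤ centralizer ({D.t} : Set G)) :
    ∀ a ∈ (S : Subgroup G), a ≠ 1 →
      ∃ n ∈ normalizer ((S : Subgroup G) : Set G), n * D.t * n⁻¹ = a := by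
  rcases D.orbit_cases S hSt hSC ⊤ le_top with h | h
  · exfalso
    obtain ⟨W, -, hodd, hn, hcom⟩ := D.zstar_in S hSt hSC (M := ⊤) le_top h
    haveI : W.Normal := ⟨fun w hw g => hn g (mem_top g) w hw⟩
    rcases (inferInstance : W.Normal).eq_bot_or_eq_top with e | e
    · subst e
      have hz : D.t ∈ center G := mem_center_iff.2 fun g => by
        have h1 := hcom g (mem_top g)
        rw [mem_bot, mul_inv_eq_one, mul_inv_eq_iff_eq_mul] at h1
        exact h1.symm
      rcases (inferInstance : (center G).Normal).eq_bot_or_eq_top with e' | e'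
      · exact D.inv_t.2 (mem_bot.1 (e' ▸ hz))
      · exact D.not_comm ⟨⟨fun a b => mem_center_iff.1 (e' ▸ mem_top b) a⟩⟩
    · subst e
      rw [Subgroup.card_top] at hodd
      exact Nat.not_even_iff_odd.2 hodd (even_iff_two_dvd.2 (D.ht ▸ orderOf_dvd_natCard D.t))
  · intro a ha ha1
    obtain ⟨n, -, hn, he⟩ := h a ha ha1
    exact ⟨n, hn, he⟩

theorem conj_t {x : G} (hx : orderOf x = 2) : ∃ g : G, g * D.t * g⁻¹ = x := by
  obtain ⟨S, hSt, hSC⟩ := D.exists_sylow
  obtain ⟨k, -, hk⟩ := D.conj_into S (K := ⊤) le_top (mem_top x) hx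
  obtain ⟨n, -, hn⟩ := D.all_conj S hSt hSC _ hk fun e => by
    rw [conj_eq_one_iff.1 e, orderOf_one] at hx; omega
  exact ⟨k⁻¹ * n, by rw [show k⁻¹ * n * D.t * (k⁻¹ * n)⁻¹ = k⁻¹ * (n * D.t * n⁻¹) * k by group, hn]; group⟩

/-- The centraliser in `W` of an involution in `⟨t⟩ × E0` other than `t` is trivial. -/
theorem fix_trivial {W : Subgroup G} (hodd : Odd (Nat.card W))
    (hWC : ∀ c ∈ centralizer ({D.t} : Set G), ∀ w ∈ W, c * w * c⁻¹ ∈ W)
    (hWc : ∀ a ∈ W, ∀ b ∈ W, Commute a b) (hWt : ∀ a ∈ W, D.t * a * D.t = a⁻¹)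
    {v : P2 F} (hv : Inv v) {u : G} (hu : u = D.emb v ∨ u = D.t * D.emb v) {x : G} (hx : x ∈ W)
    (hxu : Commute x u) : x = 1 := by
  by_contra hx1
  obtain ⟨w, hw, hwv, hwne⟩ := exists_other D.odd hv
  have hvE := D.le (D.emb_mem v)
  have hwE := D.le (D.emb_mem w)
  have htv : Commute D.t (D.emb v) := (D.comm_t hvE).symm
  have hui : Inv u := by
    rcases hu with rfl | rfl
    · exact D.inv_emb hv
    · exact D.inv_t.mul (D.inv_emb hv) htv fun e => D.t_notMem (e ▸ hvE)
  have hut : Commute u D.t := by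
    rcases hu with rfl | rfl
    · exact htv.symm
    · exact (Commute.refl _).mul_left htv.symm
  have huw : Commute u (D.emb w) := by
    rcases hu with rfl | rfl
    · exact hwv.symm.map D.emb
    · exact ((D.comm_t hwE).symm).mul_left (hwv.symm.map D.emb)
  have hune : u ≠ D.t := by
    rcases hu with rfl | rfl
    · exact fun e => D.t_notMem (e ▸ hvE)
    · exact fun e => (D.inv_emb hv).2 (mul_eq_left.1 e)
  obtain ⟨g, hg⟩ := D.conj_t hui.orderOf
  -- transport to the centraliser of `t`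
  let c : G ≃* G := MulAut.conj g⁻¹
  have hcu : c u = D.t := by rw [← hg]; simp [c, mul_assoc]
  have hcC : ∀ {z : G}, Commute z u → c z ∈ centralizer ({D.t} : Set G) := fun hz =>
    mem_centralizer_singleton_iff.2 (hcu ▸ (hz.map c.toMonoidHom).eq)
  have hproj : ∀ {z : G}, Inv z → Commute z u → z ≠ u →
      ∃ e ∈ D.E0, Inv e ∧ (c z = e ∨ c z = D.t * e) := by
    intro z hz hzu hne
    obtain ⟨e, he, hc⟩ := D.split (hcC hzu)
    have hsq : c z * c z = 1 := by rw [← map_mul, hz.1, map_one]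
    have hee : e * e = 1 := by
      rcases hc with h | h
      · rwa [h] at hsq
      · rwa [h, (D.comm_t he).mul_mul_mul_comm, D.t_sq, one_mul] at hsq
    refine ⟨e, D.two_mem_E0 he (k := 1) (by rw [pow_one, pow_two, hee]), ⟨hee, fun e1 => ?_⟩, hc⟩
    rcases hc with h | h <;> rw [e1] at h
    · exact hz.2 (c.injective (by rw [h, map_one]))
    · rw [mul_one, ← hcu] at h
      exact hne (c.injective h)
  obtain ⟨et, het0, het, hct⟩ := hproj D.inv_t hut.symm hune.symm
  obtain ⟨ew, hew0, hew, hcw⟩ := hproj (D.inv_emb hw) huw.symm (by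
    rcases hu with rfl | rfl
    · exact fun e => hwne (D.emb_injective e)
    · exact fun e => D.t_notMem (by
        rw [show D.t = D.emb w * (D.emb v)⁻¹ by rw [e, mul_inv_cancel_right]]
        exact mul_mem hwE (D.E.inv_mem hvE)))
  -- elements inverted in the centraliser of `u` land in `E0`
  have hland : ∀ {z i ei : G}, Odd (orderOf z) → Commute z u → ei ∈ D.E0 → Inv ei →
      (c i = ei ∨ c i = D.t * ei) → i * z * i = z⁻¹ →
      c z ∈ D.E0 ∧ ei * c z * ei = (c z)⁻¹ := by
    intro z i ei hzo hzu hei heinv hci h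
    have ho : Odd (orderOf (c z)) := by rwa [MulEquiv.orderOf_eq]
    have hzE := D.mem_E_of_odd (hcC hzu) ho
    have h1 : ei * c z * ei = (c z)⁻¹ := by
      have := congrArg c h
      rw [map_mul, map_mul, map_inv] at this
      rcases hci with e | e <;> rw [e] at this
      · exact this
      · rw [show D.t * ei * c z * (D.t * ei) = D.t * (ei * c z * (D.t * ei)) by group,
          (D.comm_t (D.le hei)).symm.eq,
          show D.t * (ei * c z * (ei * D.t)) = D.t * (ei * c z * ei) * D.t by group,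
          (D.comm_t (mul_mem (mul_mem (D.le hei) hzE) (D.le hei))).symm.eq, mul_assoc, D.t_sq,
          mul_one] at this
        exact this
    exact ⟨D.inverted_mem_E0 hzE ho (D.le hei) heinv.1 h1, h1⟩
  -- pull back to the projective group
  let pr : ∀ z : G, z ∈ D.E0 → P2 F := fun z hz => D.iso ⟨z, hz⟩
  have hpr : ∀ z hz, D.emb (pr z hz) = z := fun z hz => D.emb_iso z hz
  have hxo : Odd (orderOf x) := hodd.of_dvd_nat (orderOf_dvd_natCard _ hx)
  obtain ⟨hcx, hcxinv⟩ := hland hxo hxu het0 het hct (hWt x hx)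
  -- a nontrivial element of odd order centralising `v`
  set X := pr (c x) hcx
  have hD := dhyp (F := F) D.odd
  have hT := ti (F := F) D.odd
  have hXo : Odd (orderOf X) := by
    rw [← orderOf_injective D.emb D.emb_injective, hpr, MulEquiv.orderOf_eq]; exact hxo
  have hX1 : X ≠ 1 := fun e => hx1 (c.injective (by rw [map_one, ← hpr (c x) hcx]; exact (congrArg D.emb e).trans (map_one _)))
  set e' := pr et het0
  set f' := pr ew hew0
  have hinvpr : ∀ (z : G) (hz : z ∈ D.E0), Inv z → Inv (pr z hz) := fun z hz h =>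
    ⟨D.emb_injective (by rw [map_mul, hpr, h.1, map_one]), fun e => h.2 (by rw [← hpr z hz, e, map_one])⟩
  have he' : Inv e' := hinvpr _ _ het
  have hf' : Inv f' := hinvpr _ _ hew
  have hcet : ∀ {z : G}, z ∈ D.E → Commute z et → Commute z (c D.t) := by
    intro z hz h
    rcases hct with e | e <;> rw [e]
    · exact h
    · exact (D.comm_t hz).mul_right h
  have hEt : Commute ew et := by
    have h1 : Commute (c (D.emb w)) (c D.t) := (D.comm_t hwE).map c.toMonoidHom
    have hte : ∀ {z : G}, z ∈ D.E → Commute z D.t := fun hz => D.comm_t hz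
    rcases hcw with a | a <;> rcases hct with b | b <;> rw [a, b] at h1
    · exact h1
    · have h2 := ((hte (D.le hew0))).mul_right h1
      rwa [← mul_assoc, D.t_sq, one_mul] at h2
    · have h2 := ((hte (D.le het0)).symm).mul_left h1
      rwa [← mul_assoc, D.t_sq, one_mul] at h2
    · have h2 : Commute (D.t * ew) et := by
        have := ((Commute.refl D.t).mul_left (hte (D.le hew0))).mul_right h1
        rwa [← mul_assoc, D.t_sq, one_mul] at this
      have h3 := ((hte (D.le het0)).symm).mul_left h2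
      rwa [← mul_assoc, D.t_sq, one_mul] at h3
  have hfe : Commute f' e' := D.emb_injective (by rw [map_mul, map_mul, hpr, hpr]; exact hEt.eq)
  have hfne : f' ≠ e' := fun e => by
    have h1 : ew = et := by rw [← hpr ew hew0, ← hpr et het0]; exact congrArg D.emb e
    have hwt : D.emb w ≠ D.t := fun e => D.t_notMem (e ▸ hwE)
    rcases hcw with a | a <;> rcases hct with b | b <;> rw [h1] at a
    · exact hwt (c.injective (a.trans b.symm))
    all_goals
      have hc2 : c (D.emb w) = c u * c D.t ∨ c (D.emb w) = c D.t := by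
        rw [hcu]
        first
          | exact Or.inr (a.trans b.symm)
          | exact Or.inl (by rw [a, b, ← mul_assoc, D.t_sq, one_mul])
          | exact Or.inl (by rw [a, b])
      rcases hc2 with hc2 | hc2
      · rw [← map_mul] at hc2
        have h2 := c.injective hc2
        rcases hu with rfl | rfl
        · exact D.t_notMem (by
            rw [show D.t = (D.emb v)⁻¹ * D.emb w by rw [h2, inv_mul_cancel_left]]
            exact mul_mem (D.E.inv_mem hvE) hwE)
        · rw [mul_assoc, ← htv.eq, ← mul_assoc, D.t_sq, one_mul] at h2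
          exact hwne (D.emb_injective h2)
      · exact hwt (c.injective hc2)
  -- a commuting involution of `X`
  obtain ⟨Y, hYo, hY1, hYv⟩ : ∃ Y : P2 F, Odd (orderOf Y) ∧ Y ≠ 1 ∧ Commute Y v := by
    have hc1 : Commute (f' * X * f') X := by
      refine D.emb_injective ?_
      simp only [map_mul, f', X, hpr]
      have h1 : Commute (c (D.emb w * x * D.emb w)) (c x) :=
        (hWc _ (by
          have := hWC _ (D.E_le hwE) x hx
          rwa [(D.inv_emb hw).inv_eq] at this) x hx).map c.toMonoidHom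
      have hcw' : c (D.emb w * x * D.emb w) = ew * c x * ew := by
        rw [map_mul, map_mul]
        rcases hcw with a | a <;> rw [a]
        have hxE := D.le hcx
        rw [show D.t * ew * c x * (D.t * ew) = D.t * (ew * c x) * D.t * ew by group,
          (D.comm_t (mul_mem (D.le hew0) hxE)).symm.eq, mul_assoc _ D.t D.t, D.t_sq, mul_one]
      rw [hcw'] at h1
      exact h1.eq
    have hXe : e' * X * e' = X⁻¹ := D.emb_injective (by
      simp only [map_mul, map_inv, e', X, hpr]; exact hcxinv)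
    obtain ⟨a, h, ha1, hao, hh, hah⟩ :
        ∃ a h : P2 F, a ≠ 1 ∧ Odd (orderOf a) ∧ Inv h ∧ Commute a h := by
      by_cases hs : X * (f' * X * f') = 1
      · refine ⟨X, e' * f', hX1, hXo, he'.mul hf' hfe.symm hfne.symm, ?_⟩
        have h1 : f' * X * f' = X⁻¹ := eq_inv_of_mul_eq_one_right hs
        have h2 : (e' * f') * X * (e' * f')⁻¹ = X := by
          rw [mul_inv_rev, he'.inv_eq, hf'.inv_eq,
            show e' * f' * X * (f' * e') = e' * (f' * X * f') * e' by group, h1]
          have := congrArg (·⁻¹) hXe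
          simp only [mul_inv_rev, he'.inv_eq, inv_inv, ← mul_assoc] at this
          exact this
        exact (mul_inv_eq_iff_eq_mul.1 h2).symm
      · refine ⟨X * (f' * X * f'), f', hs, ?_, hf', ?_⟩
        · refine (hXo.mul ?_).of_dvd_nat hc1.symm.orderOf_mul_dvd_mul_orderOf
          have := MulEquiv.orderOf_eq (MulAut.conj f') X
          rw [MulAut.conj_apply, hf'.inv_eq] at this
          rw [this]; exact hXo
        · show X * (f' * X * f') * f' = f' * (X * (f' * X * f'))
          calc X * (f' * X * f') * f' = (f' * X * f') * X * f' := by rw [hc1.symm.eq]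
            _ = f' * (X * (f' * X * f')) := by group
    obtain ⟨r, hr⟩ := isConj_iff.1
      (CfsgLib.Linear.FourGroups.involutions_conj D.odd hh.1 hh.2 hv.1 hv.2)
    exact ⟨r * a * r⁻¹, by rwa [Invol.orderOf_conj_eq], fun e => ha1 (conj_eq_one_iff.1 e),
      hr ▸ (Commute.conj_iff r).2 hah⟩
  have hyw : D.emb w * D.emb Y * D.emb w = (D.emb Y)⁻¹ := by
    rw [← map_mul, ← map_mul, ← map_inv, hD.inverts hv hw hwv hwne ⟨hYv, hYo⟩]
  have hyE := D.le (D.emb_mem Y)
  have hyu : Commute (D.emb Y) u := by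
    rcases hu with rfl | rfl
    · exact hYv.map D.emb
    · exact (D.comm_t hyE).mul_right (hYv.map D.emb)
  have hyo : Odd (orderOf (D.emb Y)) := by rwa [orderOf_injective D.emb D.emb_injective]
  obtain ⟨hcy, hcyinv⟩ := hland hyo hyu hew0 hew hcw hyw
  set y' := pr (c (D.emb Y)) hcy
  -- the image of the fixed points
  let K : Subgroup (P2 F) :=
    ((W ⊓ centralizer ({u} : Set G)).map c.toMonoidHom).comap D.emb
  have hK : ∀ {a}, a ∈ K → ∃ z ∈ W, Commute z u ∧ c z = D.emb a := by
    rintro a ⟨z, hz, hza⟩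
    exact ⟨z, hz.1, mem_centralizer_singleton_iff.1 hz.2, hza⟩
  have hconjK : ∀ {s : G} {s' : P2 F}, s ∈ centralizer ({D.t} : Set G) → Commute s u →
      (∀ a ∈ K, c s * D.emb a * (c s)⁻¹ = D.emb (s' * a * s'⁻¹)) → ∀ a ∈ K, s' * a * s'⁻¹ ∈ K := by
    intro s s' hsC hsu h a ha
    obtain ⟨z, hz, hzu, hza⟩ := hK ha
    refine ⟨s * z * s⁻¹, ⟨hWC s hsC z hz, mem_centralizer_singleton_iff.2
      ((hsu.mul_left hzu).mul_left hsu.inv_left).eq⟩, ?_⟩
    show c (s * z * s⁻¹) = _
    rw [map_mul, map_mul, map_inv, hza, h a ha]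
  have hKbot : K = ⊥ := by
    refine torus_kill hD hT he' hf' hfe hfne (y := y') ?_ ?_ ?_ ?_ ?_ ?_ ?_ ?_ ?_
    · rwa [← orderOf_injective D.emb D.emb_injective, hpr, MulEquiv.orderOf_eq]
    · refine D.emb_injective ?_
      simp only [map_mul, y', e', hpr]
      have h1 : Commute (c (D.emb Y)) (c D.t) := (D.comm_t hyE).map c.toMonoidHom
      rcases hct with b | b <;> rw [b] at h1
      · exact h1.eq
      · have h2 := ((D.comm_t (D.le hcy))).mul_right h1
        rw [← mul_assoc, D.t_sq, one_mul] at h2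
        exact h2.eq
    · intro e
      have h1 := congrArg D.emb e
      rw [hpr, map_one] at h1
      exact hY1 (D.emb_injective (c.injective (by rw [h1, map_one, map_one])))
    · exact D.emb_injective (by simp only [map_mul, map_inv, f', y', hpr]; exact hcyinv)
    · have h1 := card_comap_dvd_of_injective
        ((W ⊓ centralizer ({u} : Set G)).map c.toMonoidHom) D.emb D.emb_injective
      rw [card_map_of_injective c.injective] at h1
      exact hodd.of_dvd_nat (h1.trans (card_dvd_of_le inf_le_left))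
    · intro a ha b hb
      obtain ⟨z, hz, -, hza⟩ := hK ha
      obtain ⟨z', hz', -, hzb⟩ := hK hb
      exact D.emb_injective (by
        rw [map_mul, map_mul, ← hza, ← hzb, ← map_mul, ← map_mul, (hWc z hz z' hz').eq])
    · intro a ha
      obtain ⟨z, hz, hzu, hza⟩ := hK ha
      obtain ⟨-, h⟩ := hland (hodd.of_dvd_nat (orderOf_dvd_natCard _ hz)) hzu het0 het hct (hWt z hz)
      rw [hza] at h
      exact D.emb_injective (by simp only [map_mul, map_inv, e', hpr]; exact h)
    · intro a ha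
      have := hconjK (s := D.emb w) (s' := f') (D.E_le hwE) huw.symm (fun b _ => by
        simp only [map_mul, map_inv, f', hpr]
        rcases hcw with e | e <;> rw [e]
        rw [mul_inv_rev, show D.t * ew * D.emb b * (ew⁻¹ * D.t⁻¹) =
          D.t * (ew * D.emb b * ew⁻¹) * D.t⁻¹ by group,
          (D.comm_t (mul_mem (mul_mem (D.le hew0) (D.le (D.emb_mem b)))
            (D.E.inv_mem (D.le hew0)))).symm.eq, mul_inv_cancel_right]) a ha
      rwa [hf'.inv_eq] at this
    · exact hconjK (s := D.emb Y) (s' := y') (D.E_le hyE) hyu fun b _ => by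
        simp only [map_mul, map_inv, y', hpr]
  have hXK : X ∈ K := ⟨x, ⟨hx, mem_centralizer_singleton_iff.2 hxu.eq⟩, (hpr _ hcx).symm⟩
  rw [hKbot, mem_bot] at hXK
  exact hX1 hXK

/-- A subgroup containing the centraliser properly, not the whole group, is strongly embedded. -/
theorem stronglyEmbedded {M : Subgroup G} (hCM : centralizer ({D.t} : Set G) < M) (hM : M ≠ ⊤) :
    Cfsg.IsStronglyEmbedded M := by
  obtain ⟨S, hSt, hSC⟩ := D.exists_sylow
  have hSM := hSC.trans hCM.le
  rcases D.orbit_cases S hSt hSC M hCM.le with h | h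
  · exfalso
    obtain ⟨W, hWM, hodd, hn, hcom⟩ := D.zstar_in S hSt hSC hCM.le h
    have hWC : ∀ c ∈ centralizer ({D.t} : Set G), ∀ w ∈ W, c * w * c⁻¹ ∈ W :=
      fun c hc => hn c (hCM.le hc)
    have hbot : W ⊓ centralizer ({D.t} : Set G) = ⊥ :=
      D.odd_normal_centralizer inf_le_right (hodd.of_dvd_nat (card_dvd_of_le inf_le_left))
        fun c hc r hr => ⟨hWC c hc r hr.1, mul_mem (mul_mem hc hr.2) ((centralizer _).inv_mem hc)⟩
    obtain ⟨hinv, hcomm⟩ := CfsgLib.M12U.inverts_of_fpf (N := W) D.t_sq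
      (fun n hn' => hWC D.t D.t_mem n hn') fun n hn' he => by
        have : n ∈ W ⊓ centralizer ({D.t} : Set G) :=
          ⟨hn', mem_centralizer_singleton_iff.2 (mul_inv_eq_iff_eq_mul.1 he).symm⟩
        rwa [hbot, mem_bot] at this
    have hWt : ∀ a ∈ W, D.t * a * D.t = a⁻¹ := fun a ha => by
      have := hinv a ha
      rwa [D.inv_t.inv_eq] at this
    have hWc : ∀ a ∈ W, ∀ b ∈ W, Commute a b := hcomm
    obtain ⟨v, -, hv, -, -, -⟩ := D.exists_pair
    have hvE := D.le (D.emb_mem v)
    set u := D.emb v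
    have hu : Inv u := D.inv_emb hv
    have hWbot : W = ⊥ := by
      refine (Subgroup.eq_bot_iff_forall W).2 fun x hx => ?_
      have hvx : u * x * u ∈ W := by
        have := hWC u (D.E_le hvE) x hx
        rwa [hu.inv_eq] at this
      have h1 : x * (u * x * u) = 1 := D.fix_trivial hodd hWC hWc hWt hv (Or.inl rfl)
        (mul_mem hx hvx) (by
          show x * (u * x * u) * u = u * (x * (u * x * u))
          calc x * (u * x * u) * u = (u * x * u) * x * u := by rw [(hWc x hx _ hvx).eq]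
            _ = u * (x * (u * x * u)) := by group)
      refine D.fix_trivial hodd hWC hWc hWt hv (Or.inr rfl) hx ?_
      have h2 : u * x * u = x⁻¹ := eq_inv_of_mul_eq_one_right h1
      have h3 : (D.t * u) * x * (D.t * u)⁻¹ = x := by
        rw [mul_inv_rev, D.inv_t.inv_eq, hu.inv_eq,
          show D.t * u * x * (u * D.t) = D.t * (u * x * u) * D.t by group, h2, hWt _ (inv_mem hx),
          inv_inv]
      exact (mul_inv_eq_iff_eq_mul.1 h3).symm
    refine hCM.not_ge fun m hm => mem_centralizer_singleton_iff.2 ?_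
    have h1 := hcom m hm
    rw [hWbot, mem_bot, mul_inv_eq_one, mul_inv_eq_iff_eq_mul] at h1
    exact h1.symm
  · have key : ∀ x ∈ M, orderOf x = 2 → ∃ m ∈ M, m * D.t * m⁻¹ = x := by
      intro x hx hxo
      obtain ⟨k, hk, hkS⟩ := D.conj_into S hSM hx hxo
      obtain ⟨n, hn, -, he⟩ := h _ hkS fun e => by
        rw [conj_eq_one_iff.1 e, orderOf_one] at hxo; omega
      exact ⟨k⁻¹ * n, mul_mem (inv_mem hk) hn, by
        rw [show k⁻¹ * n * D.t * (k⁻¹ * n)⁻¹ = k⁻¹ * (n * D.t * n⁻¹) * k by group, he]; group⟩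
    refine (Cfsg.Agent.S0223.result M hM (even_iff_two_dvd.2
      (D.ht ▸ orderOf_dvd_natCard _ (hCM.le D.t_mem)))).2 ⟨fun x hx hxo c hc => ?_,
      fun x hx y hy hxo hyo _ => ?_⟩
    · obtain ⟨m, hm, rfl⟩ := key x hx hxo
      have hc' : Commute c (m * D.t * m⁻¹) := mem_centralizer_singleton_iff.1 hc
      have h1 : m⁻¹ * c * m ∈ centralizer ({D.t} : Set G) := by
        have := (Commute.conj_iff m⁻¹).2 hc'
        rw [show m⁻¹ * (m * D.t * m⁻¹) * m⁻¹⁻¹ = D.t by group, inv_inv] at this
        exact mem_centralizer_singleton_iff.2 this.eq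
      have := mul_mem (mul_mem hm (hCM.le h1)) (inv_mem hm)
      simpa [mul_assoc] using this
    · obtain ⟨m, hm, rfl⟩ := key x hx hxo
      obtain ⟨m', hm', rfl⟩ := key y hy hyo
      exact ⟨m' * m⁻¹, mul_mem hm' (inv_mem hm), by group⟩

end Setting

end CfsgLib.InvCentPSL
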