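import Cfsg.Agent.InvCentPSL.Main
import Cfsg.Agent.Bender.Consumers
import Cfsg.Agent.CITGraph.Models
import Cfsg.Agent.Unitary.Special
import Cfsg.Agent.PrimeGraph.SL2Char2

/-!
The strongly embedded case: none of Bender's three families has such an involution.
-/

set_option autoImplicit false
set_option linter.unusedSectionVars false
set_option linter.style.haveILetI false

namespace CfsgLib.InvCentPSL

open Subgroup
open CfsgLib.Linear.SmallSub (P2)
open CfsgLib.NormCyclic (Inv)

theorem trace_zero_of_commute {K : Type*} [Field K] [CharP K 2]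
    {a z : Matrix.SpecialLinearGroup (Fin 2) K} (ha : a * a = 1) (ha1 : a ≠ 1) (hz : a * z = z * a) :
    z * z = 1 := by
  have two : (2 : K) = 0 := CharTwo.two_eq_zero
  have hd : (a : Matrix (Fin 2) (Fin 2) K) 0 0 * (a : Matrix (Fin 2) (Fin 2) K) 1 1 -
      (a : Matrix (Fin 2) (Fin 2) K) 0 1 * (a : Matrix (Fin 2) (Fin 2) K) 1 0 = 1 := by
    rw [← Matrix.det_fin_two]; exact a.2
  have he : (z : Matrix (Fin 2) (Fin 2) K) 0 0 * (z : Matrix (Fin 2) (Fin 2) K) 1 1 -
      (z : Matrix (Fin 2) (Fin 2) K) 0 1 * (z : Matrix (Fin 2) (Fin 2) K) 1 0 = 1 := by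
    rw [← Matrix.det_fin_two]; exact z.2
  have h1 := congrArg (fun m : Matrix.SpecialLinearGroup (Fin 2) K => (m : Matrix (Fin 2) (Fin 2) K)) ha
  have h2 := congrArg (fun m : Matrix.SpecialLinearGroup (Fin 2) K => (m : Matrix (Fin 2) (Fin 2) K)) hz
  have a00 := congrFun (congrFun h1 0) 0
  have a01 := congrFun (congrFun h1 0) 1
  have a10 := congrFun (congrFun h1 1) 0
  have a11 := congrFun (congrFun h1 1) 1
  have z01 := congrFun (congrFun h2 0) 1
  have z10 := congrFun (congrFun h2 1) 0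
  simp [Matrix.mul_apply, Fin.sum_univ_two] at a00 a01 a10 a11 z01 z10
  generalize hA : (a : Matrix (Fin 2) (Fin 2) K) = A at hd a00 a01 a10 a11 z01 z10
  generalize hZ : (z : Matrix (Fin 2) (Fin 2) K) = Z at he z01 z10
  -- the trace of `a` is zero
  have htA : A 0 0 = A 1 1 := by
    have : (A 0 0 - A 1 1) * (A 0 0 - A 1 1) = 0 := by
      linear_combination a00 + a11 - 2 * hd - two * (2 * (A 0 1 * A 1 0))
    exact sub_eq_zero.1 (mul_self_eq_zero.1 this)
  have htZ : Z 0 0 = Z 1 1 := by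
    by_cases hb : A 0 1 = 0
    · by_cases hc : A 1 0 = 0
      · exfalso
        have h00 : A 0 0 = 1 := by
          have : (A 0 0 - 1) * (A 0 0 - 1) = 0 := by
            rw [hb, zero_mul, add_zero] at a00
            linear_combination a00 - (A 0 0 - 1) * two
          exact sub_eq_zero.1 (mul_self_eq_zero.1 this)
        refine ha1 (Subtype.ext (Matrix.ext fun i j => ?_))
        rw [hA]
        fin_cases i <;> fin_cases j <;> simp [hb, hc, h00, ← htA]
      · have h : A 1 0 * (Z 0 0 - Z 1 1) = 0 := by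
          rw [← htA] at z10
          linear_combination z10
        exact sub_eq_zero.1 ((mul_eq_zero.1 h).resolve_left hc)
    · have h : A 0 1 * (Z 0 0 - Z 1 1) = 0 := by
        rw [← htA] at z01
        linear_combination -z01
      exact sub_eq_zero.1 ((mul_eq_zero.1 h).resolve_left hb)
  refine Subtype.ext (Matrix.ext fun i j => ?_)
  rw [Matrix.SpecialLinearGroup.coe_mul, Matrix.SpecialLinearGroup.coe_one, hZ]
  rw [← htZ] at he
  fin_cases i <;> fin_cases j <;> simp [Matrix.mul_apply, Fin.sum_univ_two, ← htZ]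
  · linear_combination he + (Z 0 1 * Z 1 0) * two
  · linear_combination (Z 0 0 * Z 0 1) * two
  · linear_combination (Z 0 0 * Z 1 0) * two
  · linear_combination he + (Z 0 1 * Z 1 0) * two

variable {G : Type*} [Group G] [Finite G] {F : Type} [Field F] [Fintype F] (D : Setting G F)

namespace Setting

include D

theorem card_sylow_le (S : Sylow 2 G) (hSt : D.t ∈ (S : Subgroup G))
    (hSC : (S : Subgroup G) ≤ centralizer ({D.t} : Set G)) : Nat.card (S : Subgroup G) ≤ 8 := by
  classical
  haveI := Fact.mk Nat.prime_two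
  set V : Subgroup G := (S : Subgroup G) ⊓ D.E0
  have hV : Nat.card V ≤ 4 := by
    have hp : IsPGroup 2 (V.comap D.emb) :=
      (S.isPGroup'.to_le inf_le_left).comap_of_injective D.emb D.emb_injective
    obtain ⟨Q, hQ⟩ := hp.exists_le_sylow
    have hK := CfsgLib.Linear.SylowTwoSL.isKleinFour_sylow_psl rfl D.mod8 Q
    refine le_trans (le_of_eq ?_) (hK.card_four ▸ Subgroup.card_le_of_le hQ)
    refine Nat.card_congr ⟨fun z => ⟨D.iso ⟨z, z.2.2⟩, by
        show D.emb (D.iso ⟨z, z.2.2⟩) ∈ V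
        rw [D.emb_iso]; exact z.2⟩,
      fun a => ⟨D.emb a, a.2⟩, fun z => Subtype.ext (D.emb_iso _ _),
      fun a => Subtype.ext (D.emb_injective (D.emb_iso _ _))⟩
  have hf : Nat.card (S : Subgroup G) ≤ Nat.card (Bool × V) := by
    let f : ↥(S : Subgroup G) → Bool × V := fun a =>
      if h : (a : G) ∈ D.E0 then (true, ⟨a, a.2, h⟩)
      else (false, ⟨D.t * a, mul_mem hSt a.2, ((D.sylow_cases S hSt hSC a.2).1).resolve_left h⟩)
    refine Nat.card_le_card_of_injective f fun a b hab => ?_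
    by_cases h : (a : G) ∈ D.E0 <;> by_cases h' : (b : G) ∈ D.E0 <;>
      simp only [f, h, h', dite_true, dite_false, Prod.mk.injEq] at hab
    · exact Subtype.ext (congrArg Subtype.val hab.2 :)
    · exact absurd hab.1 (by decide)
    · exact absurd hab.1 (by decide)
    · exact Subtype.ext (mul_left_cancel (congrArg Subtype.val hab.2 :))
  rw [Nat.card_prod, Nat.card_eq_fintype_card (α := Bool), Fintype.card_bool] at hf
  omega

theorem exists_order_three : ∃ z : G, orderOf z = 3 ∧ Commute z D.t := by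
  haveI := Fact.mk Nat.prime_three
  have h := CfsgLib.GW.CaseI.two_mul_card_psl (F := F) D.odd
  have h3 : 3 ∣ Fintype.card F * (Fintype.card F ^ 2 - 1) := by
    set q := Fintype.card F
    have hq : q % 3 = 0 ∨ q % 3 ≠ 0 := em _
    rcases hq with hq | hq
    · exact Dvd.dvd.mul_right (Nat.dvd_of_mod_eq_zero hq) _
    · refine Dvd.dvd.mul_left ?_ _
      have hsq : q ^ 2 % 3 = 1 := by
        rw [Nat.pow_mod]
        rcases (show q % 3 = 1 ∨ q % 3 = 2 by omega) with e | e <;> rw [e] <;> norm_num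
      omega
  rw [← h] at h3
  obtain ⟨z, hz⟩ := exists_prime_orderOf_dvd_card' (G := P2 F) 3
    ((Nat.Prime.dvd_mul Nat.prime_three).1 h3 |>.resolve_left (by norm_num))
  exact ⟨D.emb z, by rw [orderOf_injective D.emb D.emb_injective, hz],
    D.comm_t (D.le (D.emb_mem z))⟩

theorem not_three (h : Bender.Consumers.Three G) : False := by
  haveI := Fact.mk Nat.prime_two
  obtain ⟨S, hSt, hSC⟩ := D.exists_sylow
  have hS := D.card_sylow_le S hSt hSC
  have key : ¬ 2 ^ 6 ∣ Nat.card G := fun hd => by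
    have h1 : 2 ^ 6 ∣ Nat.card (S : Subgroup G) := by
      rw [S.card_eq_multiplicity]
      exact pow_dvd_pow 2 ((Nat.prime_two.pow_dvd_iff_le_factorization Nat.card_pos.ne').1 hd)
    have := Nat.le_of_dvd Nat.card_pos h1
    norm_num at this
    omega
  rcases h with ⟨K, i1, i2, ⟨n, hn, hc⟩, ⟨f⟩⟩ | ⟨K, i1, i2, m, hm, hc, ⟨f⟩⟩ |
    ⟨K, i1, i2, n, hn, hc, ⟨f⟩⟩
  · haveI := charP_of_card_eq_prime_pow hc
    obtain ⟨z, hz, hzt⟩ := D.exists_order_three
    let g : G ≃* Matrix.SpecialLinearGroup (Fin 2) K := f.trans CfsgLib.SL2Char2.slEquivPSL.symm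
    have h1 := trace_zero_of_commute (a := g D.t) (z := g z)
      (by rw [← map_mul, D.t_sq, map_one]) (fun e => D.inv_t.2 (g.injective (by rw [e, map_one])))
      (by rw [← map_mul, ← map_mul, hzt.eq])
    rw [← map_mul] at h1
    have h2 : orderOf z ∣ 2 := orderOf_dvd_of_pow_eq_one (by
      rw [pow_two]; exact g.injective (by rw [h1, map_one]))
    rw [hz] at h2
    norm_num at h2
  · refine key ?_
    rw [Nat.card_congr f.toEquiv, CfsgLib.CITGraph.card_lieSz hm hc]
    refine Dvd.dvd.mul_right (Dvd.dvd.mul_right ?_ _) _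
    rw [← pow_mul]
    exact pow_dvd_pow 2 (by omega)
  · refine key ?_
    rw [Nat.card_congr f.toEquiv]
    have hF : Nat.card K = (2 ^ n) ^ 2 := by rw [Nat.card_eq_fintype_card, hc]
    have h1 := CfsgLib.Unitary.card_PSU_mul (F := K) (q := 2 ^ n) hF (n := 3) (by norm_num)
    rw [CfsgLib.Unitary.card_GU hF] at h1
    have hodd : Odd (2 ^ n + 1) := (Nat.even_pow.2 ⟨even_two, by omega⟩).add_one
    have hd : (2 ^ n) ^ (3 * (3 - 1) / 2) ∣
        (Nat.gcd 3 (2 ^ n + 1) * (2 ^ n + 1)) * Nat.card (Cfsg.PSU 3 K (2 ^ n)) := by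
      rw [mul_assoc, h1]
      exact dvd_mul_right _ _
    have hco : ((2 ^ n) ^ (3 * (3 - 1) / 2)).Coprime (Nat.gcd 3 (2 ^ n + 1) * (2 ^ n + 1)) := by
      rw [← pow_mul]
      refine (Nat.coprime_two_left.2 ?_).pow_left _
      exact ((show Odd 3 by decide).of_dvd_nat (Nat.gcd_dvd_left _ _)).mul hodd
    refine (dvd_trans ?_ (hco.dvd_of_dvd_mul_left hd))
    rw [← pow_mul]
    exact pow_dvd_pow 2 (by omega)

/-- The centraliser is maximal. -/
theorem isCoatom [IsSimpleGroup G]
    (h3 : ∀ M : Subgroup G, Cfsg.IsStronglyEmbedded M → Bender.Consumers.Three G) :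
    IsCoatom (centralizer ({D.t} : Set G)) := by
  refine ⟨fun e => ?_, fun M hlt => ?_⟩
  · have hz : D.t ∈ center G := mem_center_iff.2 fun g =>
      mem_centralizer_singleton_iff.1 (e ▸ mem_top g)
    rcases (inferInstance : (center G).Normal).eq_bot_or_eq_top with e' | e'
    · exact D.inv_t.2 (mem_bot.1 (e' ▸ hz))
    · exact D.not_comm ⟨⟨fun a b => mem_center_iff.1 (e' ▸ mem_top b) a⟩⟩
  · by_contra hM
    exact D.not_three (h3 M (D.stronglyEmbedded hlt hM))

end Setting

end CfsgLib.InvCentPSL
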