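import Cfsg.Agent.InvCentPSL.PSLFacts
import Cfsg.Agent.ZStar.Final
import Cfsg.Agent.Invol.Isolated
import Cfsg.Agent.M12U.Tools
import Cfsg.Prelude.Def_TwoFusion
import Cfsg.Prelude.Def_Involutions

/-!
An involution with centraliser `⟨t⟩ × E`, `PSL₂(q) ≤ E ≤ Aut PSL₂(q)`, in a simple group with abelian
Sylow 2-subgroups: a subgroup properly containing the centraliser is strongly embedded.
-/

set_option autoImplicit false
set_option linter.unusedSectionVars false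
set_option linter.style.haveILetI false

namespace CfsgLib.InvCentPSL

open Subgroup
open CfsgLib.Linear.SmallSub (P2)
open CfsgLib.DGroup (DHyp TI eq_one_of_sq)
open CfsgLib.NormCyclic (Inv)

/-- The torus lemma: nothing nontrivial of odd order is inverted by `e`, normalised by a
nontrivial odd element `y` commuting with `e` and by an involution `f` inverting `y`. -/
theorem torus_kill {X : Type*} [Group X] [Finite X] (hD : DHyp X) (hT : TI X) {e f y : X}
    (he : Inv e) (hf : Inv f) (hfe : Commute f e) (hne : f ≠ e) (hyo : Odd (orderOf y))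
    (hye : Commute y e) (hy1 : y ≠ 1) (hfy : f * y * f = y⁻¹) {K : Subgroup X}
    (hKodd : Odd (Nat.card K)) (hKc : ∀ a ∈ K, ∀ b ∈ K, Commute a b)
    (hKe : ∀ a ∈ K, e * a * e = a⁻¹) (hKf : ∀ a ∈ K, f * a * f ∈ K)
    (hKy : ∀ a ∈ K, y * a * y⁻¹ ∈ K) : K = ⊥ := by
  refine (Subgroup.eq_bot_iff_forall K).2 fun x hx => ?_
  by_contra hx1
  have hod : ∀ a ∈ K, Odd (orderOf a) := fun a ha => hKodd.of_dvd_nat (orderOf_dvd_natCard _ ha)
  obtain ⟨a, h, haK, ha1, hh, hah, hhor⟩ : ∃ a h : X, a ∈ K ∧ a ≠ 1 ∧ Inv h ∧ Commute a h ∧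
      (h = f ∨ h = e * f) := by
    by_cases hs : x * (f * x * f) = 1
    · refine ⟨x, e * f, hx, hx1, he.mul hf hfe.symm hne.symm, ?_, Or.inr rfl⟩
      have h1 : f * x * f = x⁻¹ := eq_inv_of_mul_eq_one_right hs
      have h2 : (e * f) * x * (e * f)⁻¹ = x := by
        rw [mul_inv_rev, he.inv_eq, hf.inv_eq,
          show e * f * x * (f * e) = e * (f * x * f) * e by group, h1,
          hKe _ (inv_mem hx), inv_inv]
      exact (mul_inv_eq_iff_eq_mul.1 h2).symm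
    · refine ⟨x * (f * x * f), f, mul_mem hx (hKf x hx), hs, hf, ?_, Or.inl rfl⟩
      have hc := hKc x hx _ (hKf x hx)
      show x * (f * x * f) * f = f * (x * (f * x * f))
      calc x * (f * x * f) * f = (f * x * f) * x * f := by rw [hc.eq]
        _ = f * (x * (f * x * f)) := by group
  have hbK := hKy a haK
  have h1 : Commute (y * a * y⁻¹) h :=
    hT h a _ hh ha1 (hod a haK) (hod _ hbK) hah (hKc _ hbK a haK)
  have h2 : Commute a (y⁻¹ * h * y) := by
    have := (Commute.conj_iff y⁻¹).2 h1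
    simpa [mul_assoc] using this
  have h3 : y⁻¹ * h * y = h := hD.inv_unique hT hh (by simpa using hh.conj y⁻¹) (hod a haK) ha1 hah h2
  have hyh : Commute y h := by
    show y * h = h * y
    nth_rw 1 [← h3]
    group
  have hyf : Commute y f := by
    rcases hhor with e0 | e0
    · exact e0 ▸ hyh
    · have := hye.mul_right (e0 ▸ hyh)
      rwa [← mul_assoc, he.1, one_mul] at this
  exact hy1 (hD.four_free he hf hfe hne hyo hye hyf)

/-- The configuration. -/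
structure Setting (G : Type*) [Group G] (F : Type) [Field F] [Fintype F] where
  /-- the involution -/
  t : G
  /-- the complement -/
  E : Subgroup G
  /-- the simple normal subgroup -/
  E0 : Subgroup G
  ht : orderOf t = 2
  prod : Cfsg.IsInternalDirectProduct (zpowers t) E (centralizer ({t} : Set G))
  le : E0 ≤ E
  normal : (E0.subgroupOf E).Normal
  /-- the isomorphism -/
  iso : E0 ≃* P2 F
  odd : Odd (Fintype.card F)
  faithful : E ⊓ centralizer (E0 : Set G) = ⊥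
  abelian : ∀ P : Sylow 2 G, IsMulCommutative (P : Subgroup G)

variable {G : Type*} [Group G] [Finite G] {F : Type} [Field F] [Fintype F] (D : Setting G F)

namespace Setting

include D

theorem t_sq : D.t * D.t = 1 := Invol.mul_self_eq_one D.ht

theorem inv_t : Inv D.t := Inv.of_orderOf D.ht

theorem E_le : D.E ≤ centralizer ({D.t} : Set G) := D.prod.2.1

theorem E0_le : D.E0 ≤ centralizer ({D.t} : Set G) := D.le.trans D.E_le

theorem t_mem : D.t ∈ centralizer ({D.t} : Set G) := mem_centralizer_singleton_iff.2 rfl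

theorem comm_t {x : G} (hx : x ∈ D.E) : Commute x D.t :=
  mem_centralizer_singleton_iff.1 (D.E_le hx)

theorem t_notMem : D.t ∉ D.E := fun h => D.inv_t.2 (by
  have : D.t ∈ zpowers D.t ⊓ D.E := ⟨mem_zpowers _, h⟩
  rwa [D.prod.2.2.2.1, mem_bot] at this)

theorem split {c : G} (hc : c ∈ centralizer ({D.t} : Set G)) :
    ∃ s ∈ D.E, c = s ∨ c = D.t * s := by
  obtain ⟨-, -, hcomm, -, hsup⟩ := D.prod
  have hnorm : zpowers D.t ≤ normalizer (D.E : Set G) := fun a ha =>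
    centralizer_le_normalizer _ (mem_centralizer_iff.2 fun h hh => (hcomm a ha h hh).symm)
  rw [← hsup] at hc
  rw [← SetLike.mem_coe, Subgroup.coe_mul_of_left_le_normalizer_right _ _ hnorm] at hc
  obtain ⟨a, ha, s, hs, rfl⟩ := Set.mem_mul.1 hc
  obtain ⟨i, rfl⟩ := mem_zpowers_iff.1 ha
  refine ⟨s, hs, ?_⟩
  rcases Int.even_or_odd' i with ⟨j, rfl | rfl⟩
  · left; rw [zpow_mul, zpow_two, D.t_sq, one_zpow, one_mul]
  · right; rw [zpow_add, zpow_mul, zpow_two, D.t_sq, one_zpow, one_mul, zpow_one]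

theorem conj_E {c x : G} (hc : c ∈ centralizer ({D.t} : Set G)) (hx : x ∈ D.E) :
    c * x * c⁻¹ ∈ D.E := by
  obtain ⟨s, hs, rfl | rfl⟩ := D.split hc
  · exact mul_mem (mul_mem hs hx) (inv_mem hs)
  · have h1 : s * x * s⁻¹ ∈ D.E := mul_mem (mul_mem hs hx) (inv_mem hs)
    rw [show D.t * s * x * (D.t * s)⁻¹ = D.t * (s * x * s⁻¹) * D.t⁻¹ by group, ← (D.comm_t h1).eq,
      mul_inv_cancel_right]
    exact h1

theorem conj_E0 {c x : G} (hc : c ∈ centralizer ({D.t} : Set G)) (hx : x ∈ D.E0) :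
    c * x * c⁻¹ ∈ D.E0 := by
  obtain ⟨s, hs, hcs⟩ := D.split hc
  have h1 : s * x * s⁻¹ ∈ D.E0 := by
    have := D.normal.conj_mem ⟨x, D.le hx⟩ hx ⟨s, hs⟩
    exact this
  rcases hcs with rfl | rfl
  · exact h1
  · rw [show D.t * s * x * (D.t * s)⁻¹ = D.t * (s * x * s⁻¹) * D.t⁻¹ by group,
      ← (D.comm_t (D.le h1)).eq, mul_inv_cancel_right]
    exact h1

theorem mem_E_of_odd {c : G} (hc : c ∈ centralizer ({D.t} : Set G)) (ho : Odd (orderOf c)) :
    c ∈ D.E := by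
  obtain ⟨s, hs, rfl | rfl⟩ := D.split hc
  · exact hs
  exfalso
  obtain ⟨k, hk⟩ := ho
  have h := pow_orderOf_eq_one (D.t * s)
  rw [(D.comm_t hs).symm.mul_pow, hk, pow_succ, pow_mul, pow_two, D.t_sq, one_pow, one_mul] at h
  exact D.t_notMem (by
    rw [eq_inv_of_mul_eq_one_left h]
    exact inv_mem (pow_mem hs _))

/-- The embedding of the projective group. -/
def emb : P2 F →* G := D.E0.subtype.comp D.iso.symm.toMonoidHom

theorem emb_injective : Function.Injective D.emb :=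
  D.E0.subtype_injective.comp D.iso.symm.injective

theorem emb_mem (u : P2 F) : D.emb u ∈ D.E0 := (D.iso.symm u).2

theorem emb_iso (x : G) (hx : x ∈ D.E0) : D.emb (D.iso ⟨x, hx⟩) = x := by
  show ((D.iso.symm (D.iso ⟨x, hx⟩) : D.E0) : G) = x
  rw [MulEquiv.symm_apply_apply]

theorem inv_emb {u : P2 F} (hu : Inv u) : Inv (D.emb u) :=
  ⟨by rw [← map_mul, hu.1, map_one], fun h => hu.2 (D.emb_injective (by rw [h, map_one]))⟩

theorem pGroup_commute {H : Subgroup G} (hH : IsPGroup 2 H) {a b : G} (ha : a ∈ H) (hb : b ∈ H) :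
    Commute a b := by
  obtain ⟨P, hP⟩ := hH.exists_le_sylow
  exact congrArg Subtype.val ((D.abelian P).is_comm.comm ⟨a, hP ha⟩ ⟨b, hP hb⟩)

theorem mod8 : Fintype.card F % 8 = 3 ∨ Fintype.card F % 8 = 5 :=
  mod_eight D.odd fun Q => ⟨⟨fun a b => Subtype.ext (D.emb_injective (by
    simp only [Subgroup.coe_mul, map_mul]
    exact D.pGroup_commute (Q.isPGroup'.map D.emb) ⟨a, a.2, rfl⟩ ⟨b, b.2, rfl⟩))⟩⟩

theorem exists_pair : ∃ v w : P2 F, Inv v ∧ Inv w ∧ Commute w v ∧ w ≠ v := by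
  obtain ⟨x, U, m, hx, hx1, -⟩ := CfsgLib.Linear.FourGroups.centralizer_shape (F := F) D.odd
  obtain ⟨w, hw, h1, h2⟩ := exists_other D.odd ⟨hx, hx1⟩
  exact ⟨x, w, ⟨hx, hx1⟩, hw, h1, h2⟩

theorem exists_conj_fixed {s : G} (hs : s ∈ D.E) {k : ℕ} (hk : s ^ 2 ^ k = 1) :
    ∃ h ∈ D.E, ∃ v w : P2 F, Inv v ∧ Inv w ∧ Commute v w ∧ v ≠ w ∧
      Commute (h * s * h⁻¹) (D.emb v) ∧ Commute (h * s * h⁻¹) (D.emb w) := by
  haveI := Fact.mk Nat.prime_two
  obtain ⟨Q⟩ : Nonempty (Sylow 2 (P2 F)) := inferInstance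
  have hK := CfsgLib.Linear.SylowTwoSL.isKleinFour_sylow_psl rfl D.mod8 Q
  obtain ⟨x, y, hx1, hy1, hxy⟩ : ∃ x y : (Q : Subgroup (P2 F)), x ≠ 1 ∧ y ≠ 1 ∧ x ≠ y := by
    classical
    haveI := Fintype.ofFinite (Q : Subgroup (P2 F))
    haveI : Nontrivial (Q : Subgroup (P2 F)) := Finite.one_lt_card_iff_nontrivial.1 (by
      rw [hK.card_four]; norm_num)
    obtain ⟨a, ha⟩ := exists_ne (1 : (Q : Subgroup (P2 F)))
    obtain ⟨b, -, hb⟩ := Finset.exists_mem_notMem_of_card_lt_card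
      (s := ({1, a} : Finset (Q : Subgroup (P2 F)))) (t := Finset.univ) (by
        have h2 : ({1, a} : Finset (Q : Subgroup (P2 F))).card ≤ 2 := Finset.card_le_two
        rw [Finset.card_univ, ← Nat.card_eq_fintype_card, hK.card_four]; omega)
    simp only [Finset.mem_insert, Finset.mem_singleton, not_or] at hb
    exact ⟨a, b, ha, hb.1, fun e => hb.2 e.symm⟩
  have hinv : ∀ z : (Q : Subgroup (P2 F)), z ≠ 1 → Inv (z : P2 F) := fun z hz =>
    ⟨CfsgLib.Linear.FourGroups.klein_sq hK z.2, fun e => hz (Subtype.ext e)⟩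
  obtain ⟨R₀, hR₀⟩ := ((Q.isPGroup'.map D.emb).comap_subtype (K := D.E)).exists_le_sylow
  obtain ⟨h, hh⟩ : ∃ h : D.E, h * ⟨s, hs⟩ * h⁻¹ ∈ (R₀ : Subgroup D.E) := by
    obtain ⟨P, hP⟩ := (show IsPGroup 2 (zpowers (⟨s, hs⟩ : D.E)) from fun ⟨z, hz⟩ => by
      obtain ⟨i, rfl⟩ := mem_zpowers_iff.1 hz
      refine ⟨k, Subtype.ext ?_⟩
      show (((⟨s, hs⟩ : D.E) ^ i) ^ 2 ^ k) = 1
      rw [← zpow_natCast, ← zpow_mul, mul_comm, zpow_mul, zpow_natCast,
        show (⟨s, hs⟩ : D.E) ^ 2 ^ k = 1 from Subtype.ext hk, one_zpow]).exists_le_sylow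
    obtain ⟨h, hh⟩ := MulAction.exists_smul_eq D.E P R₀
    exact ⟨h, hh ▸ ⟨⟨s, hs⟩, hP (mem_zpowers _), rfl⟩⟩
  have hR : IsPGroup 2 ((R₀ : Subgroup D.E).map D.E.subtype) := R₀.isPGroup'.map _
  have hmem : ∀ z : (Q : Subgroup (P2 F)), D.emb z ∈ (R₀ : Subgroup D.E).map D.E.subtype := fun z =>
    ⟨⟨D.emb z, D.le (D.emb_mem _)⟩, hR₀ (mem_subgroupOf.2 ⟨z, z.2, rfl⟩), rfl⟩
  refine ⟨h, h.2, x, y, hinv x hx1, hinv y hy1,
    CfsgLib.Linear.FourGroups.klein_comm hK x.2 y.2, fun e => hxy (Subtype.ext e),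
    D.pGroup_commute hR ⟨_, hh, rfl⟩ (hmem x), D.pGroup_commute hR ⟨_, hh, rfl⟩ (hmem y)⟩

theorem two_mem_E0 {s : G} (hs : s ∈ D.E) {k : ℕ} (hk : s ^ 2 ^ k = 1) : s ∈ D.E0 := by
  obtain ⟨h, hh, v, w, hv, hw, hvw, hne, hcv, hcw⟩ := D.exists_conj_fixed hs hk
  set r := h * s * h⁻¹ with hr
  have hrE : r ∈ D.E := mul_mem (mul_mem hh hs) (inv_mem hh)
  have hrk : r ^ 2 ^ k = 1 := by rw [hr, conj_pow, hk, mul_one, mul_inv_cancel]
  have hrC := D.E_le hrE
  suffices hrE0 : r ∈ D.E0 by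
    have := D.conj_E0 (inv_mem (D.E_le hh)) hrE0
    rwa [hr, show h⁻¹ * (h * s * h⁻¹) * h⁻¹⁻¹ = s by group] at this
  let φ : D.E →* MulAut (P2 F) :=
    { toFun := fun a =>
        { toFun := fun u => D.iso ⟨a * D.emb u * (a : G)⁻¹, D.conj_E0 (D.E_le a.2) (D.emb_mem u)⟩
          invFun := fun u =>
            D.iso ⟨(a : G)⁻¹ * D.emb u * (a : G)⁻¹⁻¹,
              D.conj_E0 (inv_mem (D.E_le a.2)) (D.emb_mem u)⟩
          left_inv := fun u => D.emb_injective (by simp only [D.emb_iso]; group)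
          right_inv := fun u => D.emb_injective (by simp only [D.emb_iso]; group)
          map_mul' := fun u u' => D.emb_injective (by simp only [map_mul, D.emb_iso]; group) }
      map_one' := MulEquiv.ext fun u => D.emb_injective (by simp [D.emb_iso])
      map_mul' := fun a b => MulEquiv.ext fun u => D.emb_injective (by
        simp only [MulAut.mul_apply, MulEquiv.coe_mk, Equiv.coe_fn_mk, D.emb_iso, Subgroup.coe_mul]
        group) }
  have hφ : ∀ u, D.emb (φ ⟨r, hrE⟩ u) = r * D.emb u * r⁻¹ := fun u => D.emb_iso _ _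
  have hfix : ∀ u : P2 F, Commute r (D.emb u) → φ ⟨r, hrE⟩ u = u := fun u hu =>
    D.emb_injective (by rw [hφ, hu.eq, mul_inv_cancel_right])
  obtain ⟨z, -, -, hz⟩ := aut_four D.mod8 hv hw hvw hne
    (show (φ ⟨r, hrE⟩) ^ 2 ^ k = 1 by
      rw [← map_pow, show (⟨r, hrE⟩ : D.E) ^ 2 ^ k = 1 from Subtype.ext hrk, map_one])
    (hfix v hcv) (hfix w hcw)
  have hc : (D.emb z)⁻¹ * r ∈ D.E ⊓ centralizer (D.E0 : Set G) := by
    refine ⟨mul_mem (D.E.inv_mem (D.le (D.emb_mem z))) hrE, mem_centralizer_iff.2 fun a ha => ?_⟩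
    have h1 := hφ (D.iso ⟨a, ha⟩)
    rw [hz, MulAut.conj_apply, map_mul, map_mul, map_inv, D.emb_iso] at h1
    calc a * ((D.emb z)⁻¹ * r) = (D.emb z)⁻¹ * (D.emb z * a * (D.emb z)⁻¹) * r := by group
      _ = (D.emb z)⁻¹ * r * a := by rw [h1]; group
  rw [D.faithful, mem_bot, inv_mul_eq_one] at hc
  exact hc ▸ D.emb_mem z

theorem inverted_mem_E0 {x i : G} (hx : x ∈ D.E) (hxo : Odd (orderOf x)) (hi : i ∈ D.E)
    (hii : i * i = 1) (h : i * x * i = x⁻¹) : x ∈ D.E0 := by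
  have hi0 : i ∈ D.E0 := D.two_mem_E0 hi (k := 1) (by rw [pow_one, pow_two, hii])
  have h1 : i * (x * i * x⁻¹) ∈ D.E0 := mul_mem hi0 (D.conj_E0 (D.E_le hx) hi0)
  rw [show i * (x * i * x⁻¹) = (i * x * i) * x⁻¹ by group, h] at h1
  obtain ⟨m, hm⟩ := hxo
  have h2 : x = ((x⁻¹ * x⁻¹)⁻¹) ^ (m + 1) := by
    rw [mul_inv_rev, inv_inv, ← pow_two, ← pow_mul, show 2 * (m + 1) = orderOf x + 1 by omega,
      pow_succ, pow_orderOf_eq_one, one_mul]
  rw [h2]
  exact pow_mem (inv_mem h1) _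

theorem odd_normal_centralizer {R : Subgroup G} (hRC : R ≤ centralizer ({D.t} : Set G))
    (hodd : Odd (Nat.card R))
    (hn : ∀ c ∈ centralizer ({D.t} : Set G), ∀ r ∈ R, c * r * c⁻¹ ∈ R) : R = ⊥ := by
  refine (Subgroup.eq_bot_iff_forall R).2 fun r hr => ?_
  have hrE : r ∈ D.E := D.mem_E_of_odd (hRC hr) (hodd.of_dvd_nat (orderOf_dvd_natCard _ hr))
  have hbot : R.comap D.emb = ⊥ := by
    obtain ⟨v, w, hv, hw, hc, hne⟩ := D.exists_pair
    haveI : (R.comap D.emb).Normal := ⟨fun u hu g => by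
      show D.emb (g * u * g⁻¹) ∈ R
      rw [map_mul, map_mul, map_inv]
      exact hn _ (D.E0_le (D.emb_mem g)) _ hu⟩
    refine odd_normal D.odd ?_ hv hw hc.symm hne.symm
    have h1 := card_comap_dvd_of_injective R D.emb D.emb_injective
    exact hodd.of_dvd_nat h1
  have hmem : r ∈ D.E ⊓ centralizer (D.E0 : Set G) := by
    refine ⟨hrE, mem_centralizer_iff.2 fun a ha => ?_⟩
    have h1 : r * a * r⁻¹ * a⁻¹ ∈ D.E0 := mul_mem (D.conj_E0 (hRC hr) ha) (inv_mem ha)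
    have h2 : r * a * r⁻¹ * a⁻¹ ∈ R := by
      rw [show r * a * r⁻¹ * a⁻¹ = r * (a * r⁻¹ * a⁻¹) by group]
      exact mul_mem hr (hn a (D.E0_le ha) _ (inv_mem hr))
    have h3 : D.iso ⟨_, h1⟩ ∈ R.comap D.emb := by
      show D.emb (D.iso ⟨_, h1⟩) ∈ R
      rwa [D.emb_iso]
    rw [hbot, mem_bot] at h3
    have h4 := congrArg D.emb h3
    rw [D.emb_iso, map_one, mul_inv_eq_one, mul_inv_eq_iff_eq_mul] at h4
    exact h4.symm
  rwa [D.faithful, mem_bot] at hmem

theorem exists_sylow : ∃ S : Sylow 2 G, D.t ∈ (S : Subgroup G) ∧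
    (S : Subgroup G) ≤ centralizer ({D.t} : Set G) := by
  haveI := Fact.mk Nat.prime_two
  obtain ⟨S, hS⟩ := (IsPGroup.of_card (n := 1) (show Nat.card (zpowers D.t) = 2 ^ 1 by
    rw [Nat.card_zpowers, D.ht, pow_one])).exists_le_sylow
  exact ⟨S, hS (mem_zpowers _), fun s hs => mem_centralizer_singleton_iff.2
    (D.pGroup_commute S.isPGroup' hs (hS (mem_zpowers _))).eq⟩

variable (S : Sylow 2 G) (hSt : D.t ∈ (S : Subgroup G))
  (hSC : (S : Subgroup G) ≤ centralizer ({D.t} : Set G))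

include hSt hSC in
theorem sylow_cases {a : G} (ha : a ∈ (S : Subgroup G)) :
    (a ∈ D.E0 ∨ D.t * a ∈ D.E0) ∧ a * a = 1 := by
  have hsq : ∀ z ∈ D.E0, ∀ k : ℕ, z ^ 2 ^ k = 1 → z * z = 1 := by
    intro z hz k hk
    haveI := Fact.mk Nat.prime_two
    have hu : (D.iso ⟨z, hz⟩) ^ 2 ^ k = 1 := D.emb_injective (by rw [map_pow, D.emb_iso, hk, map_one])
    obtain ⟨Q, hQ⟩ := (show IsPGroup 2 (zpowers (D.iso ⟨z, hz⟩)) from fun ⟨b, hb⟩ => by
      obtain ⟨i, rfl⟩ := mem_zpowers_iff.1 hb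
      refine ⟨k, Subtype.ext ?_⟩
      show ((D.iso ⟨z, hz⟩) ^ i) ^ 2 ^ k = 1
      rw [← zpow_natCast, ← zpow_mul, mul_comm, zpow_mul, zpow_natCast, hu, one_zpow]).exists_le_sylow
    have h := CfsgLib.Linear.FourGroups.klein_sq
      (CfsgLib.Linear.SylowTwoSL.isKleinFour_sylow_psl rfl D.mod8 Q) (hQ (mem_zpowers _))
    rw [← D.emb_iso z hz, ← map_mul, h, map_one]
  obtain ⟨s, hs, hcase⟩ := D.split (hSC ha)
  have hsS : s ∈ (S : Subgroup G) := by
    rcases hcase with rfl | rfl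
    · exact ha
    · simpa using mul_mem (inv_mem hSt) ha
  obtain ⟨k, hk⟩ := S.isPGroup' ⟨s, hsS⟩
  have hk' : s ^ 2 ^ k = 1 := congrArg Subtype.val hk
  have hs0 := D.two_mem_E0 hs hk'
  have h2 := hsq s hs0 k hk'
  rcases hcase with rfl | rfl
  · exact ⟨Or.inl hs0, h2⟩
  · refine ⟨Or.inr (by rw [← mul_assoc, D.t_sq, one_mul]; exact hs0), ?_⟩
    rw [(D.comm_t hs).mul_mul_mul_comm, D.t_sq, h2, one_mul]

include hSt hSC in
/-- Conjugates of `t` inside `S` under a subgroup containing the centraliser: only `t`, or all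
involutions. -/
theorem orbit_cases (K : Subgroup G) (hCK : centralizer ({D.t} : Set G) ≤ K) :
    (∀ n ∈ K, n ∈ normalizer ((S : Subgroup G) : Set G) → n * D.t * n⁻¹ = D.t) ∨
      ∀ a ∈ (S : Subgroup G), a ≠ 1 →
        ∃ n ∈ K, n ∈ normalizer ((S : Subgroup G) : Set G) ∧ n * D.t * n⁻¹ = a := by
  classical
  haveI := Fact.mk Nat.prime_two
  set NS := normalizer ((S : Subgroup G) : Set G)
  set O : Set G := {a | ∃ n ∈ K, n ∈ NS ∧ n * D.t * n⁻¹ = a}
  have hOS : ∀ a ∈ O, a ∈ (S : Subgroup G) ∧ a ≠ 1 := by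
    rintro _ ⟨n, -, hn, rfl⟩
    exact ⟨(mem_normalizer_iff.1 hn D.t).1 hSt, fun h => D.inv_t.2 (conj_eq_one_iff.1 h)⟩
  -- the size of the orbit is odd
  have hOodd : Odd (Nat.card O) := by
    set N := K ⊓ NS
    let H : Subgroup N := (centralizer ({D.t} : Set G)).subgroupOf N
    let f : N ⧸ H → O := Quotient.lift (fun n => ⟨(n : G) * D.t * (n : G)⁻¹, n, n.2.1, n.2.2, rfl⟩)
      (fun a b hab => by
        have h : a⁻¹ * b ∈ H := QuotientGroup.leftRel_apply.1 hab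
        have h' : Commute ((a : G)⁻¹ * b) D.t := mem_centralizer_singleton_iff.1 (mem_subgroupOf.1 h)
        apply Subtype.ext
        show (a : G) * D.t * (a : G)⁻¹ = (b : G) * D.t * (b : G)⁻¹
        calc (a : G) * D.t * (a : G)⁻¹
            = (a : G) * (D.t * ((a : G)⁻¹ * b)) * (b : G)⁻¹ := by group
          _ = _ := by rw [← h'.eq]; group)
    have hbij : Function.Bijective f := by
      constructor
      · rintro ⟨a⟩ ⟨b⟩ h
        have h' : (a : G) * D.t * (a : G)⁻¹ = (b : G) * D.t * (b : G)⁻¹ := congrArg Subtype.val h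
        refine QuotientGroup.eq.2 (mem_subgroupOf.2 (mem_centralizer_singleton_iff.2 ?_))
        show (a : G)⁻¹ * b * D.t = D.t * ((a : G)⁻¹ * b)
        calc (a : G)⁻¹ * b * D.t = (a : G)⁻¹ * ((b : G) * D.t * (b : G)⁻¹) * b := by group
          _ = _ := by rw [← h']; group
      · rintro ⟨_, n, hnK, hn, rfl⟩
        exact ⟨QuotientGroup.mk ⟨n, hnK, hn⟩, rfl⟩
    rw [← Nat.card_congr (Equiv.ofBijective f hbij), ← Subgroup.index_eq_card]
    have hSN : (S : Subgroup G) ≤ N := le_inf (hSC.trans hCK) Subgroup.le_normalizer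
    have h1 : H.index ∣ ((S : Subgroup G).subgroupOf N).index :=
      Subgroup.index_dvd_of_le fun z hz => mem_subgroupOf.2 (hSC (mem_subgroupOf.1 hz))
    have h2 := (S.subtype hSN).not_dvd_index
    rw [Sylow.coe_subtype] at h2
    refine Nat.not_even_iff_odd.1 fun he => h2 ((even_iff_two_dvd.1 he).trans h1)
  by_cases hone : O ⊆ {D.t}
  · exact Or.inl fun n hn hn' => hone ⟨n, hn, hn', rfl⟩
  -- two involutions of `S` in one coset are fused in the centraliser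
  have hcl : ∀ a b : G, a ∈ O → b ∈ (S : Subgroup G) →
      ((a ∈ D.E0 ∧ b ∈ D.E0) ∨ (D.t * a ∈ D.E0 ∧ D.t * b ∈ D.E0)) → b ≠ D.t → b ≠ 1 → a ≠ D.t →
      b ∈ O := by
    rintro a b ⟨n, hnK, hn, rfl⟩ hb hE0 hbt hb1 hat
    obtain ⟨haS, ha1⟩ := hOS _ ⟨n, hnK, hn, rfl⟩
    set a := n * D.t * n⁻¹
    have hconj : ∃ c ∈ centralizer ({D.t} : Set G), c * a * c⁻¹ = b := by
      have key : ∀ a' b' : G, a' ∈ D.E0 → b' ∈ D.E0 → a' * a' = 1 → a' ≠ 1 → b' * b' = 1 → b' ≠ 1 →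
          ∃ c ∈ centralizer ({D.t} : Set G), c * a' * c⁻¹ = b' := by
        intro a' b' ha' hb' h1 h2 h3 h4
        have hi : ∀ z, ∀ hz : z ∈ D.E0, z * z = 1 → z ≠ 1 → Inv (D.iso ⟨z, hz⟩) := fun z hz e1 e2 =>
          ⟨D.emb_injective (by rw [map_mul, D.emb_iso, e1, map_one]),
            fun e => e2 (by rw [← D.emb_iso z hz, e, map_one])⟩
        obtain ⟨u, hu⟩ := isConj_iff.1 (CfsgLib.Linear.FourGroups.involutions_conj D.odd
          (hi _ ha' h1 h2).1 (hi _ ha' h1 h2).2 (hi _ hb' h3 h4).1 (hi _ hb' h3 h4).2)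
        refine ⟨D.emb u, D.E0_le (D.emb_mem u), ?_⟩
        rw [← D.emb_iso a' ha', ← map_inv, ← map_mul, ← map_mul, hu, D.emb_iso]
      have hsq := fun z hz => (D.sylow_cases S hSt hSC (a := z) hz).2
      rcases hE0 with ⟨h1, h2⟩ | ⟨h1, h2⟩
      · exact key a b h1 h2 (hsq a haS) ha1 (hsq b hb) hb1
      · obtain ⟨c, hc, hcc⟩ := key (D.t * a) (D.t * b) h1 h2 (hsq _ (mul_mem hSt haS))
          (fun e => hat (by rw [eq_inv_of_mul_eq_one_right e, D.inv_t.inv_eq]))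
          (hsq _ (mul_mem hSt hb))
          (fun e => hbt (by rw [eq_inv_of_mul_eq_one_right e, D.inv_t.inv_eq]))
        refine ⟨c, hc, mul_left_cancel (a := D.t) ?_⟩
        rw [← hcc]
        have hct : Commute c D.t := mem_centralizer_singleton_iff.1 hc
        calc D.t * (c * a * c⁻¹) = (D.t * c) * a * c⁻¹ := by group
          _ = c * (D.t * a) * c⁻¹ := by rw [← hct.eq]; group
    obtain ⟨c, hc, hcab⟩ := hconj
    haveI := D.abelian S
    have hSC' : (S : Subgroup G) ≤ centralizer ({D.t} : Set G) := hSC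
    haveI : IsMulCommutative ((S.subtype hSC' : Sylow 2 (centralizer ({D.t} : Set G))) :
        Subgroup (centralizer ({D.t} : Set G))) :=
      ⟨⟨fun x y => Subtype.ext (Subtype.ext
        (D.pGroup_commute S.isPGroup' (mem_subgroupOf.1 x.2) (mem_subgroupOf.1 y.2)))⟩⟩
    obtain ⟨m, hm, hmab⟩ := (S.subtype hSC').conj_eq_normalizer_conj_of_mem
      (⟨a, hSC haS⟩ : centralizer ({D.t} : Set G)) (⟨c, hc⟩⁻¹) (mem_subgroupOf.2 haS)
      (mem_subgroupOf.2 (by
        show c⁻¹⁻¹ * a * c⁻¹ ∈ (S : Subgroup G)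
        rw [inv_inv, hcab]; exact hb))
    have hmN : ((m : centralizer ({D.t} : Set G)) : G)⁻¹ ∈ NS := by
      refine inv_mem (mem_normalizer_iff.2 fun z => ?_)
      constructor <;> intro hz
      · have := (mem_normalizer_iff.1 hm ⟨z, hSC hz⟩).1 (mem_subgroupOf.2 hz)
        exact mem_subgroupOf.1 this
      · have hzC : z ∈ centralizer ({D.t} : Set G) := by
          have := mul_mem (mul_mem (inv_mem m.2) (hSC hz)) m.2
          simpa [mul_assoc] using this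
        exact mem_subgroupOf.1 ((mem_normalizer_iff.1 hm ⟨z, hzC⟩).2 (mem_subgroupOf.2 hz))
    refine ⟨(m : G)⁻¹ * n, mul_mem (inv_mem (hCK m.2)) hnK, mul_mem hmN hn, ?_⟩
    have e := congrArg Subtype.val hmab
    simp only [Subgroup.coe_mul, InvMemClass.coe_inv, inv_inv] at e
    rw [show (m : G)⁻¹ * n * D.t * ((m : G)⁻¹ * n)⁻¹ = (m : G)⁻¹ * a * m by simp only [a]; group,
      ← e, hcab]
  refine Or.inr fun a ha ha1 => ?_
  by_contra hno
  have haO : a ∉ O := hno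
  have htO : D.t ∈ O := ⟨1, one_mem _, one_mem _, by simp⟩
  obtain ⟨b, hbO, hbt⟩ : ∃ b ∈ O, b ≠ D.t := by
    by_contra hcon
    push Not at hcon
    exact hone fun z hz => hcon z hz
  obtain ⟨hbS, hb1⟩ := hOS b hbO
  have hat : a ≠ D.t := fun e => haO (e ▸ htO)
  -- an element lies in exactly one coset
  have hexcl : ∀ z : G, ¬ (z ∈ D.E0 ∧ D.t * z ∈ D.E0) := fun z h => D.t_notMem (D.le (by
    simpa using mul_mem h.2 (inv_mem h.1)))
  have hnot : ¬ ((a ∈ D.E0 ∧ b ∈ D.E0) ∨ (D.t * a ∈ D.E0 ∧ D.t * b ∈ D.E0)) := fun h =>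
    haO (hcl b a hbO ha (h.imp And.symm And.symm) hat ha1 hbt)
  -- the orbit is one full coset together with `t`
  set V : Subgroup G := (S : Subgroup G) ⊓ D.E0
  have hVt : ∀ u ∈ V, u ≠ D.t := fun u hu e => D.t_notMem (D.le (e ▸ hu.2))
  have hcard : Nat.card O = Nat.card V := by
    rcases (D.sylow_cases S hSt hSC hbS).1 with hb0 | hb0
    · have hta : D.t * a ∈ D.E0 := (D.sylow_cases S hSt hSC ha).1.resolve_left
        fun h => hnot (Or.inl ⟨h, hb0⟩)
      have hzE : ∀ z ∈ O, z ≠ D.t → z ∈ D.E0 := fun z hz hzt =>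
        (D.sylow_cases S hSt hSC (hOS z hz).1).1.resolve_right fun h =>
          haO (hcl z a hz ha (Or.inr ⟨h, hta⟩) hat ha1 hzt)
      have huO : ∀ u ∈ V, u ≠ 1 → u ∈ O := fun u hu hu1 =>
        hcl b u hbO hu.1 (Or.inl ⟨hb0, hu.2⟩) (hVt u hu) hu1 hbt
      let f : O → V := fun z => if h : (z : G) = D.t then 1 else
        ⟨z, (hOS z z.2).1, hzE z z.2 h⟩
      let f' : V → O := fun u => if h : (u : G) = 1 then ⟨D.t, htO⟩ else ⟨u, huO u u.2 h⟩
      refine Nat.card_congr ⟨f, f', fun z => ?_, fun u => ?_⟩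
      · by_cases h : (z : G) = D.t
        · simp only [f, f', dif_pos h, Subgroup.coe_one, dite_true]
          exact Subtype.ext h.symm
        · simp only [f, f', dif_neg h, dif_neg (hOS z z.2).2]
      · by_cases h : (u : G) = 1
        · simp only [f, f', dif_pos h, dite_true]
          exact Subtype.ext h.symm
        · simp only [f, f', dif_neg h, dif_neg (hVt u u.2)]
    · have ha0 : a ∈ D.E0 := (D.sylow_cases S hSt hSC ha).1.resolve_right
        fun h => hnot (Or.inr ⟨h, hb0⟩)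
      have hzE : ∀ z ∈ O, D.t * z ∈ D.E0 := fun z hz => by
        by_cases hzt : z = D.t
        · rw [hzt, D.t_sq]; exact one_mem _
        · exact (D.sylow_cases S hSt hSC (hOS z hz).1).1.resolve_left fun h =>
            haO (hcl z a hz ha (Or.inl ⟨h, ha0⟩) hat ha1 hzt)
      have huO : ∀ u ∈ V, D.t * u ∈ O := fun u hu => by
        by_cases hu1 : u = 1
        · rw [hu1, mul_one]; exact htO
        · refine hcl b _ hbO (mul_mem hSt hu.1) (Or.inr ⟨hb0, ?_⟩) (fun e => hu1 (mul_eq_left.1 e))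
            (fun e => hVt u hu (by rw [eq_inv_of_mul_eq_one_right e, D.inv_t.inv_eq])) hbt
          rw [← mul_assoc, D.t_sq, one_mul]; exact hu.2
      refine Nat.card_congr ⟨fun z => ⟨D.t * z, mul_mem hSt (hOS z z.2).1, hzE z z.2⟩,
        fun u => ⟨D.t * u, huO u u.2⟩, fun z => Subtype.ext ?_, fun u => Subtype.ext ?_⟩
      · show D.t * (D.t * (z : G)) = z
        rw [← mul_assoc, D.t_sq, one_mul]
      · show D.t * (D.t * (u : G)) = u
        rw [← mul_assoc, D.t_sq, one_mul]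
  obtain ⟨w, hwV, hw1⟩ : ∃ w ∈ V, w ≠ 1 := by
    rcases (D.sylow_cases S hSt hSC hbS).1 with h | h
    · exact ⟨b, ⟨hbS, h⟩, hb1⟩
    · exact ⟨D.t * b, ⟨mul_mem hSt hbS, h⟩,
        fun e => hbt (by rw [eq_inv_of_mul_eq_one_right e, D.inv_t.inv_eq])⟩
  refine Nat.not_even_iff_odd.2 hOodd (even_iff_two_dvd.2 ?_)
  rw [hcard, ← Invol.orderOf_eq_two (D.sylow_cases S hSt hSC hwV.1).2 hw1]
  exact orderOf_dvd_natCard _ hwV

end Setting

end CfsgLib.InvCentPSL
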